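import Cfsg.Agent.Omega.NSix.Engine.ThmT

/-!
# #18323 (helper480): (H2) of N6, LEMMA 1 and LEMMA P

* `cS u A = [u, A]`;
* `Fr.lem1` : `u ∈ U_ij`, `[u, U_ik] ∈ {1, D}` for all `k` (one fixed `D`) ⟹ `u ∈ C(U_ik)` for all `k`;
  `Fr.lem1'` : then `u ∈ V_ij`;
* `Hyp.mem_Q` : `u ∈ U_ij` centralising `U_kl` lies in `Q_kl`;
* `Hyp.lemP` : `u ∈ U_ij`, `[u, U_kl] ∈ {1, D}` for all `k`, `l`, not all `1` ⟹ `D ≤ ⟨r_ij⟩`; `Hyp.lemP_set` : the same
  for the sets of commutators.
-/

set_option autoImplicit false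
set_option linter.unusedSectionVars false

namespace Cfsg.Agent.Omega.NSix.HTwo

open Subgroup Cfsg
open Cfsg.Agent.ZN (o2 zc)
open Cfsg.Agent.MinSimple.VModule (o2_le o2_isPGroup le_normalizer_o2 le_o2 mem_zc)
open Cfsg.Agent.Omega.S5.Def Cfsg.Agent.Omega.NSix.Base Cfsg.Agent.Omega.NSix.Basic
open Cfsg.Agent.Omega.NSix.Zero Cfsg.Agent.Omega.NSix.Engine
open Cfsg.Agent.Omega.NSix.Engine.Fr (Cen)
open Cfsg.Agent.Omega.TTn.Di (cm cj cj_mul cj_inv cj_cj cj_one cj_eq_of_comm comm_of_cj cj_eq_cm cm_eq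
  cm_one_iff cm_eq')

universe u

variable {G : Type u} [Group G] {n : ℕ}

/-- `[u, A]` -/
def cS (u : G) (A : Subgroup G) : Subgroup G := closure {c | ∃ y ∈ A, c = cm u y}

theorem mem_cS {u y : G} {A : Subgroup G} (hy : y ∈ A) : cm u y ∈ cS u A := subset_closure ⟨y, hy, rfl⟩

theorem cS_le {u : G} {A B : Subgroup G} (h : ∀ y ∈ A, cm u y ∈ B) : cS u A ≤ B := by
  rw [cS, closure_le]
  rintro _ ⟨y, hy, rfl⟩
  exact h y hy

theorem comm_of_cS {u : G} {A : Subgroup G} (h : cS u A = ⊥) : ∀ y ∈ A, u * y = y * u := by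
  intro y hy
  have h1 := mem_cS (u := u) hy
  rw [h, mem_bot] at h1
  exact cm_one_iff.1 h1

namespace Fr

variable {ε : (Fin n → ZMod 2) → G} {U W Q : Fin n → Fin n → Subgroup G} {w : Fin n → Fin n → G}
  (F : Fr ε U W Q w) {i j k l m : Fin n}

include F

/-- `[s z, y] = [s, y]` for `z ∈ V`, `y ∈ C_G(V)` -/
theorem cm_mul_e (s : G) {x : Fin n → ZMod 2} {y : G} (hy : y ∈ KK ε) : cm (s * ε x) y = cm s y := by
  unfold cm
  have h1 : ε x * y = y * ε x := (Fr.Ke hy x).symm
  calc s * ε x * y * (s * ε x)⁻¹ * y⁻¹ = s * (ε x * y) * (ε x)⁻¹ * s⁻¹ * y⁻¹ := by group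
    _ = s * y * s⁻¹ * y⁻¹ := by rw [h1]; group

/-- **LEMMA 1** -/
theorem lem1 (hC : ThC ε U) (hij : i ≠ j) {u : G} (hu : u ∈ U i j) {D : Subgroup G}
    (h : ∀ k, k ≠ i → k ≠ j → Cen U u i k ∨ cS u (U i k) = D) :
    ∀ k, k ≠ i → k ≠ j → Cen U u i k := by
  by_contra hcon
  push Not at hcon
  obtain ⟨c, hci, hcj, hc⟩ := hcon
  have huK := F.UK hij hu
  have hD := (h c hci hcj).resolve_left hc
  apply hc
  apply comm_of_cS
  rw [eq_bot_iff]
  intro d hd
  rw [mem_bot]
  refine F.star (i := i) fun a => ?_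
  rcases eq_or_ne i a with rfl | hia
  · exact Or.inl rfl
  · right
    rcases eq_or_ne a j with rfl | haj
    · exact cS_le (fun y hy => F.cm_left hij hu (F.UK hci.symm hy)) hd
    · rcases h a hia.symm haj with h1 | h1
      · rcases hC hia hij.symm haj.symm u hu h1 with h2 | h2
        · exact cS_le (fun y hy => F.cm_left hia h2 (F.UK hci.symm hy)) hd
        · refine cS_le (fun y hy => ?_) hd
          have hyK := F.UK hci.symm hy
          have h3 := F.cm_left hia h2 hyK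
          have h4 : cm (u * zz ε a) y = cm u y := cm_mul_e F u hyK
          rwa [h4] at h3
      · rw [hD, ← h1] at hd
        exact cS_le (fun y hy => F.cm_right hia huK hy) hd

/-- **LEMMA 1** -/
theorem lem1' (hC : ThC ε U) (hij : i ≠ j) {u : G} (hu : u ∈ U i j) {D : Subgroup G}
    (h : ∀ k, k ≠ i → k ≠ j → Cen U u i k ∨ cS u (U i k) = D) :
    ∃ x : Fin n → ZMod 2, x i = 0 ∧ x j = 0 ∧ u = ε x :=
  F.four_all hC hij hu (lem1 F hC hij hu h)

end Fr

namespace Hyp

variable {V P : Subgroup G} {ε : (Fin n → ZMod 2) → G} (h : Hyp V P ε) {i j k l : Fin n}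

include h

/-- `U_ij ∩ C(U_kl) ≤ Q_kl` -/
theorem mem_Q [Finite G] (hD : D4 i j k l) {u : G} (hu : u ∈ UU ε i j) (hc : Cen (UU ε) u k l) :
    u ∈ o2 (NN ε k l) := by
  have hD' : D4 k l i j := ⟨hD.kl, hD.ik.symm, hD.jk.symm, hD.il.symm, hD.jl.symm, hD.ij⟩
  obtain ⟨C, hC⟩ : ∃ C, C = centralizer (UU ε k l : Set G) := ⟨_, rfl⟩
  have huC : u ∈ C := by
    rw [hC, mem_centralizer_iff]
    exact fun y hy => (hc y hy).symm
  have h1 : UU ε i j ⊓ C ≤ o2 C := by
    refine le_o2 inf_le_right ((o2_isPGroup (NN ε i j)).to_le (inf_le_left.trans (h.UQ hD.ij))) ?_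
    intro g hg
    have key : ∀ g ∈ C, ∀ y ∈ UU ε i j ⊓ C, g * y * g⁻¹ ∈ UU ε i j ⊓ C := fun g hg y hy =>
      mem_inf.2 ⟨UU_normal (h.C_le' hD' (hC ▸ hg)) hy.1, mul_mem (mul_mem hg hy.2) (inv_mem hg)⟩
    rw [mem_normalizer_iff]
    refine fun y => ⟨key g hg y, fun hy => ?_⟩
    have h2 := key g⁻¹ (inv_mem hg) _ hy
    have h3 : g⁻¹ * (g * y * g⁻¹) * g⁻¹⁻¹ = y := by group
    rwa [h3] at h2
  have h2 : o2 C ≤ o2 (NN ε k l) := by
    refine le_o2 ((o2_le C).trans (hC ▸ h.C_le hD.kl)) (o2_isPGroup C) ?_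
    intro g hg
    have h3 : g ∈ normalizer (C : Set G) := by
      have key : ∀ g ∈ NN ε k l, ∀ y ∈ C, g * y * g⁻¹ ∈ C := fun g hg y hy => by
        rw [hC] at hy ⊢
        exact cen_norm hg hy
      rw [mem_normalizer_iff]
      refine fun y => ⟨key g hg y, fun hy => ?_⟩
      have h2 := key g⁻¹ (inv_mem hg) _ hy
      have h3 : g⁻¹ * (g * y * g⁻¹) * g⁻¹⁻¹ = y := by group
      rwa [h3] at h2
    exact Cfsg.Agent.Omega.NSix.End.Six.norm_o2 C h3
  exact h2 (h1 (mem_inf.2 ⟨hu, huC⟩))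

/-- the relation `[u, U_kl] = 1` is transitive -/
theorem cen_trans [Finite G] {a b c : Fin n} (hD : D4 i j a b) (hca : c ≠ a) (hcb : c ≠ b)
    {u : G} (hu : u ∈ UU ε i j) (h1 : Cen (UU ε) u a b) (h2 : Cen (UU ε) u b c) :
    Cen (UU ε) u a c := by
  obtain ⟨w, F⟩ := h.exists_fr
  have hq := mem_Q h hD hu h1
  have h3 := F.QW hD.kl u hq (w a b) (F.wW hD.kl)
  intro y hy
  have hyK := F.UK hca.symm hy
  have hy' : cj (w a b) y ∈ UU ε b c := F.w1 hD.kl hca hcb hy
  have h4 := h2 _ hy'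
  -- conjugate by `w`
  have h5 := congrArg (cj (w a b)) h4
  rw [cj_mul, cj_mul, F.cj_w_w hD.kl hyK] at h5
  -- `u^w = u` or `u r`
  have h6 : cj (w a b) u = u ∨ cj (w a b) u = u * rr ε a b := by
    have e1 : cj (w a b) u = (cm u (w a b))⁻¹ * u := by unfold cj cm; group
    have e2 : rr ε a b * u = u * rr ε a b := (Fr.Kr (F.UK hD.ij hu) a b).symm
    rcases h3 with h3 | h3
    · left
      rw [e1, h3, inv_one, one_mul]
    · right
      rw [e1, h3, F.r_inv, e2]
  rcases h6 with h6 | h6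
  · rw [h6] at h5
    exact h5
  · rw [h6] at h5
    have e3 : rr ε a b * y = y * rr ε a b := (Fr.Kr hyK a b).symm
    have e4 : u * y * rr ε a b = y * u * rr ε a b := by
      rw [mul_assoc u y, ← e3, ← mul_assoc, h5, mul_assoc]
    exact mul_right_cancel e4

/-- **LEMMA P** -/
theorem lemP [Finite G] (hij : i ≠ j) {u : G} (hu : u ∈ UU ε i j) {D : Subgroup G}
    (hp : ∀ k l, D4 i j k l → Cen (UU ε) u k l ∨ cS u (UU ε k l) = D)
    (hne : ∃ k l, D4 i j k l ∧ ¬ Cen (UU ε) u k l) : D ≤ zpowers (rr ε i j) := by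
  obtain ⟨w, F⟩ := h.exists_fr
  have hC : ThC ε (UU ε) := h.thC
  have huK := F.UK hij hu
  obtain ⟨p, q, hpq, hnc⟩ := hne
  have hDeq := (hp p q hpq).resolve_left hnc
  intro d hd
  have hdij : d ∈ UU ε i j := by
    rw [← hDeq] at hd
    exact cS_le (fun y hy => F.cm_left hij hu (F.UK hpq.kl hy)) hd
  have hdkl : ∀ a b, D4 i j a b → ¬ Cen (UU ε) u a b → d ∈ UU ε a b := by
    intro a b hab hn
    rw [← (hp a b hab).resolve_left hn] at hd
    exact cS_le (fun y hy => F.cm_right hab.kl huK hy) hd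
  -- `d ∈ Σ_F`
  have hF : ∀ a b, D4 i j a b → d ∈ UU ε a b := by
    intro a b hab
    by_cases hn : Cen (UU ε) u a b
    · -- `c ∈ {p, q}` not related to `a`
      have hex : ∃ c, c ≠ i ∧ c ≠ j ∧ c ≠ a ∧ c ≠ b ∧ ¬ Cen (UU ε) u a c := by
        by_contra hcon
        push Not at hcon
        have hrel : ∀ c, c ≠ i → c ≠ j → c ≠ a → Cen (UU ε) u a c := by
          intro c h1 h2 h3
          rcases eq_or_ne c b with rfl | h4
          · exact hn
          · exact hcon c h1 h2 h3 h4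
        apply hnc
        rcases eq_or_ne a p with rfl | hap
        · exact hrel q hpq.il.symm hpq.jl.symm hpq.kl.symm
        · rcases eq_or_ne a q with rfl | haq
          · exact F.cen_symm (hrel p hpq.ik.symm hpq.jk.symm hap.symm)
          · have h1 := hrel p hpq.ik.symm hpq.jk.symm hap.symm
            have h2 := hrel q hpq.il.symm hpq.jl.symm haq.symm
            exact cen_trans h (i := i) (j := j) (a := p) (b := a) (c := q) ⟨hij, hpq.ik, hab.ik, hpq.jk, hab.jk, hap.symm⟩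
              hpq.kl.symm haq.symm hu (F.cen_symm h1) h2
      obtain ⟨c, hci, hcj, hca, hcb, hc⟩ := hex
      have hcb' : ¬ Cen (UU ε) u b c := by
        intro h1
        exact hc (cen_trans h hab hca hcb hu hn h1)
      have e1 := hdkl a c ⟨hij, hab.ik, hci.symm, hab.jk, hcj.symm, hca.symm⟩ hc
      have e2 := hdkl b c ⟨hij, hab.il, hci.symm, hab.jl, hcj.symm, hcb.symm⟩ hcb'
      exact F.tri' hab.kl hca hcb e1 e2
    · exact hdkl a b hab hn
  have h1 := F.two_block hC (c := Pi.single i 1 + Pi.single j 1) (s := d) (F.UK hij hdij) hij ?_ ?_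
  · rcases h1 with h1 | h1
    · rw [h1]
      exact one_mem _
    · rw [h1, ← F.rr_eq]
      exact mem_zpowers _
  · rw [Pi.add_apply, Pi.add_apply, Pi.single_eq_same, Pi.single_eq_same, Pi.single_eq_of_ne hij,
      Pi.single_eq_of_ne hij.symm, add_zero, zero_add]
  · intro a b hab
    have hval : ∀ a, (Pi.single i 1 + Pi.single j 1 : Fin n → ZMod 2) a = if a = i ∨ a = j then 1 else 0 := by
      intro a
      rw [Pi.add_apply]
      rcases eq_or_ne a i with rfl | h1
      · rw [Pi.single_eq_same, Pi.single_eq_of_ne hij, add_zero, if_pos (Or.inl rfl)]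
      · rcases eq_or_ne a j with rfl | h2
        · rw [Pi.single_eq_same, Pi.single_eq_of_ne h1, zero_add, if_pos (Or.inr rfl)]
        · rw [Pi.single_eq_of_ne h1, Pi.single_eq_of_ne h2, add_zero, if_neg (by rintro (h | h) <;> contradiction)]
    rw [hval, hval] at hab
    rcases eq_or_ne a b with rfl | hne
    · exact Or.inl rfl
    right
    by_cases ha : a = i ∨ a = j
    · rw [if_pos ha] at hab
      by_cases hb : b = i ∨ b = j
      · rcases ha with rfl | rfl
        · rcases hb with rfl | rfl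
          · exact absurd rfl hne
          · exact hdij
        · rcases hb with rfl | rfl
          · rw [F.Usym]; exact hdij
          · exact absurd rfl hne
      · rw [if_neg hb] at hab
        exact absurd hab one_ne_zero
    · rw [if_neg ha] at hab
      by_cases hb : b = i ∨ b = j
      · rw [if_pos hb] at hab
        exact absurd hab.symm one_ne_zero
      · rw [not_or] at ha hb
        exact hF a b ⟨hij, Ne.symm ha.1, Ne.symm hb.1, Ne.symm ha.2, Ne.symm hb.2, hne⟩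

/-- **LEMMA P**, for the sets `[U_kl, u]` -/
theorem lemP_set [Finite G] (hij : i ≠ j) {u : G} (hu : u ∈ UU ε i j) {E : Set G}
    (hp : ∀ a b, D4 i j a b → (∀ y ∈ UU ε a b, y * u = u * y) ∨
      {x | ∃ y ∈ UU ε a b, x = y * u * y⁻¹ * u⁻¹} = E)
    (hne : ∃ a b, D4 i j a b ∧ ∃ y ∈ UU ε a b, y * u ≠ u * y) : ∀ x ∈ E, x ∈ zpowers (rr ε i j) := by
  have h1 : closure E ≤ zpowers (rr ε i j) := by
    refine lemP h hij hu (D := closure E) (fun a b hab => ?_) ?_
    · rcases hp a b hab with h1 | h1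
      · exact Or.inl fun y hy => (h1 y hy).symm
      · right
        rw [cS, ← closure_inv, ← h1]
        congr 1
        ext x
        rw [Set.mem_inv]
        constructor
        · rintro ⟨y, hy, e⟩
          refine ⟨y, hy, ?_⟩
          rw [← inv_inv x, e]
          unfold cm
          group
        · rintro ⟨y, hy, rfl⟩
          refine ⟨y, hy, ?_⟩
          unfold cm
          group
    · obtain ⟨a, b, hab, y, hy, hyu⟩ := hne
      exact ⟨a, b, hab, fun hc => hyu (hc y hy).symm⟩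
  exact fun x hx => h1 (subset_closure hx)

end Hyp

end Cfsg.Agent.Omega.NSix.HTwo
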