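import Cfsg.Agent.Omega.NSix.HTwo.LemTwo
import Cfsg.Agent.Omega.NSix.HTwo.LemP

/-!
# OMEGA N6, #18323 (1): the input of `LemTwo`, LEMMA 1 plugged in  (helper537)

`In.of` : only `hX` (#16633 (1)) is left: `g ∈ C_G(r_ij)` normalising `V ∩ r_ij^⊥` acts on the labels.
-/

set_option autoImplicit false

namespace Cfsg.Agent.Omega.NSix.HTwo.LemTwo

open Subgroup Cfsg
open Cfsg.Agent.Omega.S5.Def Cfsg.Agent.Omega.S5.Syl
open Cfsg.Agent.Omega.NSix.Base Cfsg.Agent.Omega.NSix.Basic Cfsg.Agent.Omega.NSix.Engine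
open Cfsg.Agent.Omega.NSix.CosetAct (V0 mem_V0)
open Cfsg.Agent.Omega.TTn.Di (cm cj)

universe u

variable {G : Type u} [Group G]

/-- LEMMA 1 (helper546) in the form of `In.one` -/
theorem one_of [Finite G] {n : ℕ} {V P : Subgroup G} {ε : (Fin n → ZMod 2) → G} (h : Engine.Hyp V P ε)
    {i j : Fin n} (hij : i ≠ j) :
    ∀ u ∈ UU ε i j, ∀ a ∈ UU ε i j,
      (∀ k, k ≠ i → k ≠ j → ∀ y ∈ UU ε i k, cm u y = 1 ∨ cm u y = a) → ∃ x, u = ε x := by
  intro u hu a _ ha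
  obtain ⟨w, F⟩ := h.exists_fr
  obtain ⟨x, -, -, hx⟩ := Fr.lem1' F h.thC hij hu (D := zpowers a) (by
    intro k hki hkj
    by_cases hc : Fr.Cen (UU ε) u i k
    · exact Or.inl hc
    · right
      apply le_antisymm
      · refine cS_le fun y hy => ?_
        rcases ha k hki hkj y hy with h1 | h1
        · rw [h1]; exact one_mem _
        · rw [h1]; exact mem_zpowers a
      · rw [zpowers_le]
        by_contra hcon
        refine hc fun y hy => ?_
        rcases ha k hki hkj y hy with h1 | h1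
        · exact Cfsg.Agent.Omega.TTn.Di.cm_one_iff.1 h1
        · exact absurd (h1 ▸ mem_cS hy) hcon)
  exact ⟨x, hx⟩

/-- **the input from #16633 (1)** -/
theorem In.of [Finite G] {m : ℕ} {S : Sylow 2 G} {V P : Subgroup G} {ε : (Fin (2 ^ m + 1) → ZMod 2) → G}
    {i j : Fin (2 ^ m + 1)} (h : Engine.Hyp V P ε) (hm : 2 ≤ m) (SP : (S : Subgroup G) ≤ P)
    (fix0 : Fix0 ε (S : Subgroup G)) (hij : i ≠ j) (hswap : ∃ b ∈ (S : Subgroup G), Acts ε b (Equiv.swap i j))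
    (hX : ∀ g ∈ NN ε i j, (∀ x : Fin (2 ^ m + 1) → ZMod 2, x i = x j → ∃ y, y i = y j ∧ cj g (ε x) = ε y) →
      g ∈ LL ε) : In S V P ε i j where
  hyp := h
  hm := hm
  SP := SP
  fix0 := fix0
  ij := hij
  swap := hswap
  one := one_of h hij
  cut := by
    rintro g ⟨hg, hgV⟩
    obtain ⟨σ, hσ⟩ := hX g hg fun x hx => by
      have h1 := (mem_normalizer_iff.1 hgV _).1 (mem_V0 h.ev hx)
      obtain ⟨y, hy⟩ := h.ev.surj _ (V0_le h h1)
      refine ⟨y, ?_, hy.symm⟩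
      rw [← hy] at h1
      exact (h.eU hij y).1 (V0_le_UU h1)
    exact acts_norm h.ev hσ

end Cfsg.Agent.Omega.NSix.HTwo.LemTwo
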