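import Cfsg.Agent.Omega.NSix.Engine.Inst
import Cfsg.Agent.Omega.ML.Final
import Cfsg.Agent.Omega.FFThmM

/-!
# #18323 (helper480) (2): the offenders from (ML)  (helper940)

`i j k l` four labels, `U = UU ε i j`, `A = UU ε k l`.

* `exists_syl` : `n = 2^m + 1`, `T₀ ≤ P` a Sylow 2-subgroup of `N_ij`: for every pair `k l` there is a Sylow
  2-subgroup `T` of `N_ij` in `N_kl`;
* `noOver` : `|B : C_B(U)| ≤ |U : C_U(B)|` for every `B ≤ A` (from `MLK`);
* `swap_card` : `|A : C_A(U)| = |U : C_U(A)|`;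
* `best` : `|B| |C_W(B)| ≤ |A| |C_W(A)|` for all `B ≤ A`, `W ≤ U`: `A` is a best offender on `W`;
* **`offM`** : `A ≤ C(W)` or `OffM W A`, for every `W ≤ U`.
-/

set_option autoImplicit false
set_option linter.unusedSectionVars false
set_option linter.unusedVariables false

namespace Cfsg.Agent.Omega.NSix.HTwo.Off

open Subgroup Cfsg
open Cfsg.Agent.ZN (o2 zc)
open Cfsg.Agent.Omega.S5.Def Cfsg.Agent.Omega.NSix.Base Cfsg.Agent.Omega.NSix.Basic
open Cfsg.Agent.Omega.NSix.Engine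
open Cfsg.Agent.Omega.ML.Final (MLK GDat)
open Cfsg.Agent.Omega.FFThm (OffM ElemM relIndex_le_iff)
open Cfsg.Agent.ZN.ChoiceBase

universe u

variable {G : Type u} [Group G] {n : ℕ} {V P : Subgroup G} {ε : (Fin n → ZMod 2) → G} {i j k l : Fin n}

/-! ### `U_ij = ⟨r_kl ^ N_ij⟩ ⟨r_ij⟩` -/

/-- `⟨r_kl ^ N_ij⟩` -/
def RC (ε : (Fin n → ZMod 2) → G) (i j k l : Fin n) : Subgroup G :=
  closure {x | ∃ g ∈ NN ε i j, x = g * rr ε k l * g⁻¹}

theorem rr_mem_RC : rr ε k l ∈ RC ε i j k l := subset_closure ⟨1, one_mem _, by group⟩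

theorem RC_conj {g x : G} (hg : g ∈ NN ε i j) (hx : x ∈ RC ε i j k l) : g * x * g⁻¹ ∈ RC ε i j k l := by
  unfold RC at hx ⊢
  induction hx using closure_induction with
  | mem x hx =>
    obtain ⟨y, hy, rfl⟩ := hx
    exact subset_closure ⟨g * y, mul_mem hg hy, by group⟩
  | one => rw [mul_one, mul_inv_cancel]; exact one_mem _
  | mul x y _ _ hx hy =>
    have : g * (x * y) * g⁻¹ = (g * x * g⁻¹) * (g * y * g⁻¹) := by group
    rw [this]; exact mul_mem hx hy
  | inv x _ hx =>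
    have : g * x⁻¹ * g⁻¹ = (g * x * g⁻¹)⁻¹ := by group
    rw [this]; exact inv_mem hx

theorem norm_of {N X : Subgroup G} (h : ∀ g ∈ N, ∀ x ∈ X, g * x * g⁻¹ ∈ X) : N ≤ normalizer (X : Set G) := by
  intro g hg
  rw [mem_normalizer_iff]
  refine fun x => ⟨h g hg x, fun hx => ?_⟩
  have h1 := h g⁻¹ (inv_mem hg) _ hx
  have h2 : g⁻¹ * (g * x * g⁻¹) * g⁻¹⁻¹ = x := by group
  rwa [h2] at h1

theorem RC_le (hD : D4 i j k l) : RC ε i j k l ≤ UU ε i j := by
  unfold RC
  rw [closure_le]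
  rintro x ⟨g, hg, rfl⟩
  exact UU_normal hg (rr_mem_UU hD.ik.symm hD.jk.symm hD.il.symm hD.jl.symm)

/-- an element of `P ∩ N_ij` moving the pair `k l` to the pair `a b` -/
theorem exists_mv (h : Hyp V P ε) (hD : D4 i j k l) {a b : Fin n} (hD' : D4 i j a b) :
    ∃ p ∈ P, ∃ σ : Equiv.Perm (Fin n), Acts ε p σ ∧ σ i = i ∧ σ j = j ∧ σ k = a ∧ σ l = b := by
  obtain ⟨σ, h1, h2, h3⟩ := exists_perm hD.kl hD'.kl
  obtain ⟨p, hp, hpσ⟩ := h.ev.full σ
  exact ⟨p, hp, σ, hpσ, h3 i hD.ik hD.il hD'.ik hD'.il, h3 j hD.jk hD.jl hD'.jk hD'.jl, h1, h2⟩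

theorem rr_mem_RC' (h : Hyp V P ε) (hD : D4 i j k l) {a b : Fin n} (hD' : D4 i j a b) :
    rr ε a b ∈ RC ε i j k l := by
  obtain ⟨p, -, σ, hpσ, h1, h2, h3, h4⟩ := exists_mv h hD hD'
  refine subset_closure ⟨p, ?_, ?_⟩
  · rw [mem_NN', rr_conj hpσ, h1, h2]
  · rw [rr_conj hpσ, h3, h4]

theorem UU_le (h : Hyp V P ε) (hD : D4 i j k l) : UU ε i j ≤ RC ε i j k l ⊔ zpowers (rr ε i j) := by
  set X := RC ε i j k l ⊔ zpowers (rr ε i j) with hX
  have hR : RC ε i j k l ≤ X := le_sup_left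
  have hr : rr ε i j ∈ X := mem_sup_right (mem_zpowers _)
  have hN : ∀ g ∈ NN ε i j, ∀ x ∈ X, g * x * g⁻¹ ∈ X := by
    intro g hg x hx
    have h1 : X ≤ X.comap (MulAut.conj g).toMonoidHom := by
      rw [hX, sup_le_iff]
      constructor
      · intro y hy
        exact hR (RC_conj hg hy)
      · rw [zpowers_le]
        change g * rr ε i j * g⁻¹ ∈ X
        rw [mem_NN'.1 hg]
        exact hr
    exact h1 hx
  have hz : ∀ a, a ≠ i → a ≠ j → zz ε a ∈ X := by
    intro a hai haj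
    have h1 := compl_rr h.ev hD.ij (fun t x => x ∈ V ∧ x * zz ε a ^ t ∈ X)
      ⟨one_mem _, by rw [one_mul, pow_zero]; exact one_mem _⟩ (by
      rintro b h1 h3 t x ⟨hxV, hxA⟩
      refine ⟨mul_mem (zz_mem h.ev b) hxV, ?_⟩
      have h6 : zz ε a * x = x * zz ε a := h.ev.comm_mem (zz_mem h.ev a) hxV
      have h5 : zz ε b * x * zz ε a ^ (t + 1) = rr ε b a * (x * zz ε a ^ t) := by
        unfold rr
        calc zz ε b * x * zz ε a ^ (t + 1) = zz ε b * (x * zz ε a) * zz ε a ^ t := by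
              rw [pow_succ']; group
          _ = zz ε b * (zz ε a * x) * zz ε a ^ t := by rw [h6]
          _ = _ := by group
      rw [h5]
      refine mul_mem ?_ hxA
      by_cases hba : b = a
      · rw [hba]
        have : rr ε a a = 1 := zz_sq h.ev a
        rw [this]
        exact one_mem _
      · exact hR (rr_mem_RC' h hD ⟨hD.ij, h1.symm, hai.symm, h3.symm, haj.symm, hba⟩))
    obtain ⟨-, h3⟩ := h1
    have h4 : zz ε a ^ (n - 2) = zz ε a := by
      obtain ⟨t, ht⟩ := h.odd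
      have h5 : n - 2 = 2 * (t - 1) + 1 := by have := h.n5; omega
      rw [h5, pow_succ, pow_mul, pow_two, zz_sq h.ev, one_pow, one_mul]
    rw [h4] at h3
    have h5 := mul_mem (inv_mem hr) h3
    rwa [inv_mul_cancel_left] at h5
  unfold UU
  rw [closure_le]
  rintro x ⟨g, hg, a, hai, haj, rfl⟩
  exact hN g hg _ (hz a hai haj)

/-- `C_B(U_ij) = C_B(⟨r_kl ^ N_ij⟩)` for `B` in `C_G(V)` -/
theorem cen_RC (h : Hyp V P ε) (hD : D4 i j k l) {B : Subgroup G} (hB : B ≤ UU ε k l) :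
    B ⊓ centralizer (RC ε i j k l : Set G) = B ⊓ centralizer (UU ε i j : Set G) := by
  apply le_antisymm
  · intro b hb
    refine ⟨hb.1, mem_centralizer_iff.2 fun u hu => ?_⟩
    have h1 := UU_le h hD hu
    have h2 : RC ε i j k l ⊔ zpowers (rr ε i j) ≤ centralizer ({b} : Set G) := by
      rw [sup_le_iff]
      constructor
      · intro x hx
        rw [mem_centralizer_singleton_iff]
        exact mem_centralizer_iff.1 hb.2 x hx
      · rw [zpowers_le, mem_centralizer_singleton_iff]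
        exact (Fr.Kr (h.UK hD.kl (hB hb.1)) i j).symm
    exact mem_centralizer_singleton_iff.1 (h2 h1)
  · exact inf_le_inf_left _ (centralizer_le (RC_le hD))

variable [Finite G]

/-! ### A Sylow 2-subgroup of `N_ij` in `N_kl` -/

omit [Finite G] in
theorem rr_inj (h : Hyp V P ε) {a b c d : Fin n} (hab : a ≠ b) (hcd : c ≠ d) (he : rr ε a b = rr ε c d) :
    ({a, b} : Finset (Fin n)) = {c, d} := by
  have h1 : ε (Pi.single a 1 + Pi.single b 1) = ε (Pi.single c 1 + Pi.single d 1) := by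
    rw [h.ev.add, h.ev.add]; exact he
  have hval : ∀ (a b x : Fin n), a ≠ b → ((Pi.single a 1 + Pi.single b 1 : Fin n → ZMod 2) x = 1 ↔ x = a ∨ x = b) := by
    intro a b x hab
    rw [Pi.add_apply]
    by_cases hxa : x = a
    · subst hxa
      rw [Pi.single_eq_same, Pi.single_eq_of_ne hab]
      simp
    by_cases hxb : x = b
    · subst hxb
      rw [Pi.single_eq_same, Pi.single_eq_of_ne hxa]
      simp
    rw [Pi.single_eq_of_ne hxa, Pi.single_eq_of_ne hxb]
    simp [hxa, hxb]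
  rw [h.ev.eq_iff] at h1
  rcases h1 with h1 | h1
  · ext x
    rw [Finset.mem_insert, Finset.mem_singleton, Finset.mem_insert, Finset.mem_singleton, ← hval a b x hab,
      ← hval c d x hcd, h1]
  · exfalso
    obtain ⟨x, h2, h3, h4, h5⟩ := exists_fifth h.n5 a b c d
    have h6 := congrFun h1 x
    rw [Pi.add_apply, Pi.add_apply, Pi.add_apply, Pi.single_eq_of_ne h2, Pi.single_eq_of_ne h3,
      Pi.single_eq_of_ne h4, Pi.single_eq_of_ne h5, Pi.one_apply] at h6
    simp at h6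

/-- the number of pairs outside `i j` is odd -/
theorem odd_choose {m : ℕ} (hm : 2 ≤ m) : ¬ 2 ∣ (2 ^ m + 1 - 2).choose 2 := by
  obtain ⟨t, rfl⟩ := Nat.exists_eq_add_of_le hm
  obtain ⟨q, hq⟩ : ∃ q, q + 1 = 2 ^ t := ⟨2 ^ t - 1, Nat.sub_add_cancel Nat.one_le_two_pow⟩
  have h1 : 2 ^ (2 + t) + 1 - 2 = 4 * q + 3 := by rw [pow_add, ← hq]; omega
  rw [h1, Nat.choose_two_right]
  have h2 : (4 * q + 3) * (4 * q + 3 - 1) / 2 = (4 * q + 3) * (2 * q + 1) := by
    have h3 : (4 * q + 3) * (4 * q + 3 - 1) = 2 * ((4 * q + 3) * (2 * q + 1)) := by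
      have h4 : 4 * q + 3 - 1 = 2 * (2 * q + 1) := by omega
      rw [h4]; ring
    rw [h3, Nat.mul_div_cancel_left _ two_pos]
  rw [h2]
  intro hd
  rcases (Nat.Prime.dvd_mul Nat.prime_two).1 hd with h3 | h3 <;> omega

theorem exists_syl {m : ℕ} (hm : 2 ≤ m) {ε : (Fin (2 ^ m + 1) → ZMod 2) → G} (h : Hyp V P ε)
    {i j : Fin (2 ^ m + 1)} (hij : i ≠ j) {T₀ : Subgroup G} (hTP : T₀ ≤ P) (hTN : T₀ ≤ NN ε i j)
    (h2 : IsPGroup 2 T₀) (ho : ¬ 2 ∣ T₀.relIndex (NN ε i j)) {k l : Fin (2 ^ m + 1)} (hD : D4 i j k l) :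
    ∃ T : Subgroup G, T ≤ NN ε i j ∧ T ≤ NN ε k l ∧ IsPGroup 2 T ∧ ¬ 2 ∣ T.relIndex (NN ε i j) := by
  classical
  -- the set of pairs outside `i j`
  let PS : Finset (Finset (Fin (2 ^ m + 1))) := (Finset.univ \ {i, j}).powersetCard 2
  let f : Finset (Fin (2 ^ m + 1)) → G := fun s => ε (∑ a ∈ s, Pi.single a 1)
  have hf : ∀ a b, a ≠ b → f {a, b} = rr ε a b := by
    intro a b hab
    change ε (∑ a ∈ {a, b}, Pi.single a 1) = _
    rw [Finset.sum_pair hab, h.ev.add]
    rfl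
  have hPS : ∀ s, s ∈ PS ↔ ∃ a b, D4 i j a b ∧ s = {a, b} := by
    intro s
    rw [Finset.mem_powersetCard, Finset.card_eq_two]
    constructor
    · rintro ⟨hs, a, b, hab, rfl⟩
      have ha := hs (Finset.mem_insert_self a {b})
      have hb := hs (Finset.mem_insert_of_mem (Finset.mem_singleton_self b))
      simp only [Finset.mem_sdiff, Finset.mem_univ, true_and, Finset.mem_insert, Finset.mem_singleton,
        not_or] at ha hb
      exact ⟨a, b, ⟨hij, Ne.symm ha.1, Ne.symm hb.1, Ne.symm ha.2, Ne.symm hb.2, hab⟩, rfl⟩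
    · rintro ⟨a, b, hab, rfl⟩
      refine ⟨?_, a, b, hab.kl, rfl⟩
      intro x hx
      rw [Finset.mem_insert, Finset.mem_singleton] at hx
      simp only [Finset.mem_sdiff, Finset.mem_univ, true_and, Finset.mem_insert, Finset.mem_singleton, not_or]
      rcases hx with rfl | rfl
      · exact ⟨hab.ik.symm, hab.jk.symm⟩
      · exact ⟨hab.il.symm, hab.jl.symm⟩
  have hinj : Set.InjOn f PS := by
    intro s hs s' hs' he
    obtain ⟨a, b, hab, rfl⟩ := (hPS s).1 hs
    obtain ⟨c, d, hcd, rfl⟩ := (hPS s').1 hs'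
    rw [hf a b hab.kl, hf c d hcd.kl] at he
    exact rr_inj h hab.kl hcd.kl he
  let X : Finset G := PS.image f
  have hX : ∀ x, x ∈ X ↔ ∃ a b, D4 i j a b ∧ x = rr ε a b := by
    intro x
    rw [Finset.mem_image]
    constructor
    · rintro ⟨s, hs, rfl⟩
      obtain ⟨a, b, hab, rfl⟩ := (hPS s).1 hs
      exact ⟨a, b, hab, hf a b hab.kl⟩
    · rintro ⟨a, b, hab, rfl⟩
      exact ⟨{a, b}, (hPS _).2 ⟨a, b, hab, rfl⟩, hf a b hab.kl⟩
  have hcard : X.card = (2 ^ m + 1 - 2).choose 2 := by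
    rw [Finset.card_image_of_injOn hinj, Finset.card_powersetCard, Finset.card_sdiff_of_subset
      (Finset.subset_univ _), Finset.card_univ, Fintype.card_fin, Finset.card_pair hij]
  -- `T₀` acts on it
  have hmv : ∀ t ∈ T₀, ∀ x ∈ X, t * x * t⁻¹ ∈ X := by
    intro t ht x hx
    obtain ⟨a, b, hab, rfl⟩ := (hX x).1 hx
    obtain ⟨σ, hσ⟩ := h.ev.perm t (hTP ht)
    have h1 := mem_NN'.1 (hTN ht)
    rw [rr_conj hσ] at h1
    have h3 := rr_inj h (fun h4 => hij (σ.injective h4)) hij h1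
    have hne : ∀ c, i ≠ c → j ≠ c → i ≠ σ c ∧ j ≠ σ c := by
      intro c hic hjc
      have hi : i ∈ ({σ i, σ j} : Finset _) := by rw [h3]; exact Finset.mem_insert_self _ _
      have hj : j ∈ ({σ i, σ j} : Finset _) := by
        rw [h3]; exact Finset.mem_insert_of_mem (Finset.mem_singleton_self _)
      rw [Finset.mem_insert, Finset.mem_singleton] at hi hj
      constructor
      · rintro rfl
        rcases hi with hi | hi
        · exact hic (σ.injective hi).symm
        · exact hjc (σ.injective hi).symm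
      · rintro rfl
        rcases hj with hj | hj
        · exact hic (σ.injective hj).symm
        · exact hjc (σ.injective hj).symm
    rw [rr_conj hσ]
    refine (hX _).2 ⟨σ a, σ b, ⟨hij, (hne a hab.ik hab.jk).1, (hne b hab.il hab.jl).1, (hne a hab.ik hab.jk).2,
      (hne b hab.il hab.jl).2, fun h4 => hab.kl (σ.injective h4)⟩, rfl⟩
  let act : MulAction T₀ X :=
    { smul := fun t x => ⟨(t : G) * x * (t : G)⁻¹, hmv t t.2 x x.2⟩
      one_smul := fun x => Subtype.ext (by change (1 : G) * x * (1 : G)⁻¹ = x; group)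
      mul_smul := fun s t x => Subtype.ext (by
        change ((s : G) * t) * x * ((s : G) * t)⁻¹ = (s : G) * (t * x * (t : G)⁻¹) * (s : G)⁻¹
        group) }
  have hp : Fact (Nat.Prime 2) := ⟨Nat.prime_two⟩
  have h3 := h2.nonempty_fixed_point_of_prime_not_dvd_card X (by
    rw [Nat.card_eq_fintype_card, Fintype.card_coe, hcard]
    exact odd_choose hm)
  obtain ⟨⟨x, hx⟩, hfx⟩ := h3
  obtain ⟨a, b, hab, rfl⟩ := (hX x).1 hx
  have hTa : T₀ ≤ NN ε a b := by
    intro t ht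
    rw [mem_NN']
    exact congrArg Subtype.val (hfx ⟨t, ht⟩)
  obtain ⟨p, -, σ, hpσ, h4, h5, h6, h7⟩ := exists_mv h hab hD
  refine ⟨cj p T₀, ?_, ?_, ?_, ?_⟩
  · intro x hx
    have h8 := conj_NN hpσ (hTN (mem_cj.1 hx))
    rw [h4, h5] at h8
    have h9 : p * (p⁻¹ * x * p) * p⁻¹ = x := by group
    rwa [h9] at h8
  · intro x hx
    have h8 := conj_NN hpσ (hTa (mem_cj.1 hx))
    rw [h6, h7] at h8
    have h9 : p * (p⁻¹ * x * p) * p⁻¹ = x := by group
    rwa [h9] at h8
  · rw [IsPGroup.iff_card] at h2 ⊢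
    obtain ⟨r, hr⟩ := h2
    exact ⟨r, by rw [card_cj, hr]⟩
  · have hle : cj p T₀ ≤ NN ε i j := by
      intro x hx
      have h8 := conj_NN hpσ (hTN (mem_cj.1 hx))
      rw [h4, h5] at h8
      have h9 : p * (p⁻¹ * x * p) * p⁻¹ = x := by group
      rwa [h9] at h8
    have key : ∀ T : Subgroup G, T ≤ NN ε i j → Nat.card T * T.relIndex (NN ε i j) = Nat.card (NN ε i j) := by
      intro T hT
      have h8 := relIndex_mul_relIndex ⊥ T (NN ε i j) bot_le hT
      simp only [relIndex_bot_left] at h8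
      exact h8
    have h8 := key _ hle
    rw [← key _ hTN, card_cj] at h8
    have h9 : (cj p T₀).relIndex (NN ε i j) = T₀.relIndex (NN ε i j) :=
      Nat.eq_of_mul_eq_mul_left Nat.card_pos h8
    rw [h9]
    exact ho

/-! ### (ML) -/

/-- **no over-offender** -/
theorem noOver (h : Hyp V P ε) (hML : MLK.{u, u}) (hK : IsKGroup ↥(NN ε i j)) (hD : D4 i j k l)
    {T : Subgroup G} (hTi : T ≤ NN ε i j) (hTk : T ≤ NN ε k l) (hT2 : IsPGroup 2 T)
    (hTo : ¬ 2 ∣ T.relIndex (NN ε i j)) {B : Subgroup G} (hB : B ≤ UU ε k l) :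
    Nat.card B * Nat.card ↥(UU ε i j ⊓ centralizer (B : Set G)) ≤
      Nat.card (UU ε i j) * Nat.card ↥(B ⊓ centralizer (UU ε i j : Set G)) := by
  rw [relIndex_le_iff]
  have hUsq : ∀ x ∈ RC ε i j k l, x * x = 1 := fun x hx => h.Usq hD.ij (RC_le hD hx)
  have hQN : UU ε k l ≤ NN ε i j := (h.UQ hD.kl).trans (h.Q_le hD)
  have D : GDat (NN ε i j) (RC ε i j k l) ⊥ T (UU ε k l) B (rr ε k l) :=
    { nW := norm_of fun g hg x hx => RC_conj hg hx
      nY := norm_of fun g hg x hx => by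
        rw [mem_bot] at hx ⊢
        rw [hx]; group
      YW := bot_le
      WY := norm_of fun g hg x hx => by
        rw [mem_bot] at hx ⊢
        rw [hx]; group
      sq := fun x hx => by rw [mem_bot]; exact hUsq x hx
      mem := rr_mem_RC
      gen := fun U hU _ hN => by
        unfold RC
        rw [closure_le]
        rintro x ⟨g, hg, rfl⟩
        exact (mem_normalizer_iff.1 (hN hg) _).1 hU
      TC := hTi
      two := hT2
      odd := hTo
      fixT := fun t ht => by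
        rw [mem_bot, mem_NN'.1 (hTk ht), mul_inv_cancel]
      QC := hQN
      Q2 := (MinSimple.VModule.o2_isPGroup (NN ε k l)).to_le (h.UQ hD.kl)
      fixQ := fun q hq => by
        rw [mem_bot, mem_NN'.1 (MinSimple.VModule.o2_le _ (h.UQ hD.kl hq)), mul_inv_cancel]
      nrmQ := fun g _ hg q hq => by
        rw [mem_bot, mul_inv_eq_one] at hg
        exact UU_normal (mem_NN'.2 hg) hq
      AQ := hB
      Asq := fun a ha x _ => by
        have h1 : a * a = 1 := h.Usq hD.kl (hB ha)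
        rw [mem_bot]
        have h2 : a * (a * x * a⁻¹) * a⁻¹ * x⁻¹ = (a * a) * x * (a * a)⁻¹ * x⁻¹ := by group
        rw [h2, h1]; group }
  have key := hML.grp hK D (KA := B ⊓ centralizer (RC ε i j k l : Set G))
    (CW := RC ε i j k l ⊓ centralizer (B : Set G)) (by
      intro a
      rw [mem_inf, mem_centralizer_iff]
      refine and_congr Iff.rfl (forall₂_congr fun x _ => ?_)
      rw [mem_bot, mul_inv_eq_one, mul_inv_eq_iff_eq_mul]
      exact eq_comm) (by
      intro x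
      rw [mem_inf, mem_centralizer_iff]
      refine and_congr Iff.rfl (forall₂_congr fun a _ => ?_)
      rw [mem_bot, mul_inv_eq_one, mul_inv_eq_iff_eq_mul])
  have e1 : (B ⊓ centralizer (RC ε i j k l : Set G)).relIndex B = (centralizer (UU ε i j : Set G)).relIndex B := by
    rw [cen_RC h hD hB, inf_relIndex_left]
  have e2 : (RC ε i j k l ⊓ centralizer (B : Set G)).relIndex (RC ε i j k l) ≤
      (centralizer (B : Set G)).relIndex (UU ε i j) := by
    rw [inf_relIndex_left]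
    exact relIndex_le_of_le_right (RC_le hD) index_ne_zero_of_finite
  rw [e1] at key
  exact key.trans e2

/-- `|A : C_A(U)| = |U : C_U(A)|` -/
theorem swap_card (h : Hyp V P ε) (hD : D4 i j k l) :
    Nat.card (UU ε i j) = Nat.card (UU ε k l) ∧
      Nat.card ↥(UU ε i j ⊓ centralizer (UU ε k l : Set G)) =
        Nat.card ↥(UU ε k l ⊓ centralizer (UU ε i j : Set G)) := by
  obtain ⟨p, -, hp⟩ := h.ev.full (Equiv.swap i k * Equiv.swap j l)
  have t1 : (Equiv.swap i k * Equiv.swap j l) i = k := by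
    rw [Equiv.Perm.mul_apply, Equiv.swap_apply_of_ne_of_ne hD.ij hD.il, Equiv.swap_apply_left]
  have t2 : (Equiv.swap i k * Equiv.swap j l) j = l := by
    rw [Equiv.Perm.mul_apply, Equiv.swap_apply_left, Equiv.swap_apply_of_ne_of_ne hD.il.symm hD.kl.symm]
  have t3 : (Equiv.swap i k * Equiv.swap j l) k = i := by
    rw [Equiv.Perm.mul_apply, Equiv.swap_apply_of_ne_of_ne hD.jk.symm hD.kl, Equiv.swap_apply_right]
  have t4 : (Equiv.swap i k * Equiv.swap j l) l = j := by
    rw [Equiv.Perm.mul_apply, Equiv.swap_apply_right, Equiv.swap_apply_of_ne_of_ne hD.ij.symm hD.jk]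
  have e1 : ∀ {a b c d : Fin n}, (Equiv.swap i k * Equiv.swap j l) a = c → (Equiv.swap i k * Equiv.swap j l) b = d →
      cj p (UU ε a b) = UU ε c d := by
    intro a b c d hac hbd
    ext x
    rw [mem_cj]
    constructor
    · intro hx
      have h1 := UU_conj hp hx
      rw [hac, hbd] at h1
      have h2 : p * (p⁻¹ * x * p) * p⁻¹ = x := by group
      rwa [h2] at h1
    · intro hx
      have h1 := UU_conj hp.inv hx
      rw [← hac, ← hbd] at h1
      have e : ∀ m, (Equiv.swap i k * Equiv.swap j l)⁻¹ ((Equiv.swap i k * Equiv.swap j l) m) = m := fun m =>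
        Equiv.symm_apply_apply _ m
      rw [e, e, inv_inv] at h1
      exact h1
  have e2 := e1 t1 t2
  have e3 := e1 t3 t4
  constructor
  · rw [← e2, card_cj]
  · rw [← card_cj p, cj_inf, cj_centralizer, e2, e3]

/-- **`A = UU ε k l` is a best offender on every `W ≤ UU ε i j`** -/
theorem best (h : Hyp V P ε) (hML : MLK.{u, u}) (hK : IsKGroup ↥(NN ε i j)) (hD : D4 i j k l)
    {T : Subgroup G} (hTi : T ≤ NN ε i j) (hTk : T ≤ NN ε k l) (hT2 : IsPGroup 2 T)
    (hTo : ¬ 2 ∣ T.relIndex (NN ε i j)) {W : Subgroup G} (hW : W ≤ UU ε i j) {B : Subgroup G} (hB : B ≤ UU ε k l) :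
    Nat.card B * Nat.card ↥(W ⊓ centralizer (B : Set G)) ≤
      Nat.card (UU ε k l) * Nat.card ↥(W ⊓ centralizer (UU ε k l : Set G)) := by
  set U := UU ε i j with hU
  set A := UU ε k l with hA
  -- `W₀ = C_W(B)`, `X = W₀ C_U(A) ≤ C_U(B)`
  set W₀ := W ⊓ centralizer (B : Set G) with hW₀
  set X := W₀ ⊔ (U ⊓ centralizer (A : Set G)) with hX
  have hcomm : U ⊓ centralizer (A : Set G) ≤ centralizer (W₀ : Set G) := fun x hx =>
    mem_centralizer_iff.2 fun y hy => h.Uab hD.ij (hW hy.1) hx.1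
  have hXle : X ≤ U ⊓ centralizer (B : Set G) :=
    sup_le (inf_le_inf_right _ hW) (inf_le_inf_left _ (centralizer_le hB))
  have h1 := Cfsg.Agent.PLocal.ElemAbSup.card_sup_mul_card_inf hcomm
  have h2 : W₀ ⊓ (U ⊓ centralizer (A : Set G)) = W ⊓ centralizer (A : Set G) := by
    apply le_antisymm
    · exact le_inf (inf_le_left.trans inf_le_left) (inf_le_right.trans inf_le_right)
    · exact le_inf (le_inf inf_le_left (inf_le_right.trans (centralizer_le hB)))
        (le_inf (inf_le_left.trans hW) inf_le_right)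
  rw [h2] at h1
  have h3 := noOver h hML hK hD hTi hTk hT2 hTo hB
  obtain ⟨h4, h5⟩ := swap_card h hD
  have h6 : Nat.card X ≤ Nat.card ↥(U ⊓ centralizer (B : Set G)) := Subgroup.card_le_of_le hXle
  have h7 : Nat.card ↥(B ⊓ centralizer (U : Set G)) ≤ Nat.card ↥(A ⊓ centralizer (U : Set G)) :=
    Subgroup.card_le_of_le (inf_le_inf_right _ hB)
  have h8 : 0 < Nat.card ↥(U ⊓ centralizer (A : Set G)) := Nat.card_pos
  refine Nat.le_of_mul_le_mul_right ?_ h8
  calc Nat.card B * Nat.card W₀ * Nat.card ↥(U ⊓ centralizer (A : Set G))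
      = Nat.card B * (Nat.card X * Nat.card ↥(W ⊓ centralizer (A : Set G))) := by rw [h1, mul_assoc]
    _ ≤ Nat.card B * (Nat.card ↥(U ⊓ centralizer (B : Set G)) * Nat.card ↥(W ⊓ centralizer (A : Set G))) :=
        Nat.mul_le_mul_left _ (Nat.mul_le_mul_right _ h6)
    _ = (Nat.card B * Nat.card ↥(U ⊓ centralizer (B : Set G))) * Nat.card ↥(W ⊓ centralizer (A : Set G)) := by
        rw [mul_assoc]
    _ ≤ (Nat.card U * Nat.card ↥(B ⊓ centralizer (U : Set G))) * Nat.card ↥(W ⊓ centralizer (A : Set G)) :=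
        Nat.mul_le_mul_right _ h3
    _ ≤ (Nat.card U * Nat.card ↥(A ⊓ centralizer (U : Set G))) * Nat.card ↥(W ⊓ centralizer (A : Set G)) :=
        Nat.mul_le_mul_right _ (Nat.mul_le_mul_left _ h7)
    _ = Nat.card A * Nat.card ↥(W ⊓ centralizer (A : Set G)) * Nat.card ↥(U ⊓ centralizer (A : Set G)) := by
        rw [h4, ← h5]; ring

/-- **`A = UU ε k l` centralises `W` or is an offender on `W`**, for every `W ≤ UU ε i j` -/
theorem offM (h : Hyp V P ε) (hML : MLK.{u, u}) (hK : IsKGroup ↥(NN ε i j)) (hD : D4 i j k l)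
    {T : Subgroup G} (hTi : T ≤ NN ε i j) (hTk : T ≤ NN ε k l) (hT2 : IsPGroup 2 T)
    (hTo : ¬ 2 ∣ T.relIndex (NN ε i j)) {W : Subgroup G} (hW : W ≤ UU ε i j) :
    UU ε k l ≤ centralizer (W : Set G) ∨ OffM W (UU ε k l) := by
  by_cases hc : UU ε k l ≤ centralizer (W : Set G)
  · exact Or.inl hc
  right
  refine ⟨⟨fun a ha => ?_, fun a ha b hb => ?_⟩, hc, ?_⟩
  · rw [pow_two, h.Usq hD.kl ha]; exact one_mem _
  · have h1 : a * b * a⁻¹ * b⁻¹ = 1 := by rw [h.Uab hD.kl ha hb]; group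
    rw [h1]; exact one_mem _
  · have h1 := best h hML hK hD hTi hTk hT2 hTo hW (B := UU ε k l ⊓ centralizer (W : Set G)) inf_le_left
    have h2 : W ⊓ centralizer ((UU ε k l ⊓ centralizer (W : Set G) : Subgroup G) : Set G) = W :=
      inf_eq_left.2 fun x hx => mem_centralizer_iff.2 fun y hy => (mem_centralizer_iff.1 hy.2 x hx).symm
    rw [h2, mul_comm] at h1
    exact h1

end Cfsg.Agent.Omega.NSix.HTwo.Off
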