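import Cfsg.Agent.Omega.NSix.HTwo.Star
import Cfsg.Agent.Omega.FFThmM

/-!
# (6) of #18323 (helper480): `(H2)` of node N6, over the frame `Fr`

* `step`, `move`: the functionals of `W_kl ∩ C(V)` on `U^*` do not depend on the pair `kl`;
* `six` (6): if `W' ≤ U^*` and `R` has no over-offender on `W'`, `R` containing `W_kl ∩ C(V)` and `W_k'l' ∩ C(V)` for two
  disjoint pairs, then all these functionals vanish on `W'` (`Cz`);
* `main` (6), (7): under the same hypotheses `W' ≤ V`.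
-/

set_option autoImplicit false
set_option linter.unusedSectionVars false

namespace Cfsg.Agent.Omega.NSix.HTwo.Star

open Subgroup Cfsg.Agent.Omega.S5.Def Cfsg.Agent.Omega.NSix.Base
open Cfsg.Agent.Omega.NSix.Engine Cfsg.Agent.Omega.NSix.Engine.Fr
open Cfsg.Agent.Omega.TTn.Di (cm cj cj_mul cj_inv cj_cj cj_one cj_eq_of_comm comm_of_cj cj_eq_cm cm_eq
  cm_one_iff cm_eq')
open Cfsg.Agent.Omega.FFThm (NoOverM ElemM)

universe u

variable {G : Type u} [Group G] {n : ℕ}
  {ε : (Fin n → ZMod 2) → G} {U W Q : Fin n → Fin n → Subgroup G} {w : Fin n → Fin n → G}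
  (F : Fr ε U W Q w) {i j k l m a b : Fin n}

/-- `c` and `c'` have the same functional on `U^*` -/
def Same (U : Fin n → Fin n → Subgroup G) (i j : Fin n) (c c' : G) : Prop :=
  ∀ y, Un U i j y → (cm y c' = 1 ↔ cm y c = 1)

include F

theorem step (hQ : ∀ {i j k l : Fin n}, D4 i j k l → ∀ y ∈ U i j, Cen U y k l → y ∈ Q k l)
    (hD : D4 i j a b) (hmi : m ≠ i) (hmj : m ≠ j) (hma : m ≠ a) (hmb : m ≠ b) {x : G} (hx : x ∈ W a b)
    (hxK : x ∈ KK ε) : ∃ x' ∈ W a m, x' ∈ KK ε ∧ Same U i j x x' := by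
  refine ⟨cj (w b m) x, ?_, F.cjK hmb.symm hxK, fun y hy => ?_⟩
  · have h1 : x ∈ W b a := F.Wsym a b ▸ hx
    have h2 := F.W1 hmb.symm hD.kl hma.symm h1
    rwa [F.Wsym] at h2
  · have hD' : D4 i j b m := ⟨hD.ij, hD.il, hmi.symm, hD.jl, hmj.symm, hmb.symm⟩
    have hxK' : cj (w b m) x ∈ KK ε := F.cjK hmb.symm hxK
    have hyK : y ∈ KK ε := F.UK hD.ij hy.1
    have key : ∀ e : G, (∃ f, e = ε f) → cj (w b m) y = e * y → cm y (cj (w b m) x) = cj (w b m) (cm y x) := by
      rintro _ ⟨f, rfl⟩ he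
      rw [cj_cm, he, cm_mul_left, cm_one_iff.2 (Ke hxK' f).symm, mul_one]
      exact (cj_eq_of_comm (Ke (F.cmK hyK hxK') f).symm).symm
    have h1 : cm y (cj (w b m) x) = cj (w b m) (cm y x) := by
      have e1 : cj (w b m) y = (cm y (w b m))⁻¹ * y := by unfold cj cm; group
      rcases phi F hQ hD' hy (F.wW hmb.symm) with h3 | h3
      · refine key 1 ⟨0, F.zero.symm⟩ ?_
        rw [e1, h3, inv_one]
      · refine key (rr ε b m) ⟨_, F.rr_eq b m⟩ ?_
        rw [e1, h3, F.r_inv]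
    rw [h1]
    constructor
    · intro h2
      have h3 : cj (w b m)⁻¹ (cj (w b m) (cm y x)) = 1 := by rw [h2, cj_one]
      rw [← h3]
      unfold cj
      group
    · intro h2
      rw [h2, cj_one]

theorem move1 (hQ : ∀ {i j k l : Fin n}, D4 i j k l → ∀ y ∈ U i j, Cen U y k l → y ∈ Q k l)
    (hD : D4 i j a b) (hD' : D4 i j a m) {x : G} (hx : x ∈ W a b)
    (hxK : x ∈ KK ε) : ∃ x' ∈ W a m, x' ∈ KK ε ∧ Same U i j x x' := by
  rcases eq_or_ne m b with rfl | hmb
  · exact ⟨x, hx, hxK, fun _ _ => Iff.rfl⟩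
  · exact step F hQ hD hD'.il.symm hD'.jl.symm hD'.kl.symm hmb hx hxK

theorem move (hQ : ∀ {i j k l : Fin n}, D4 i j k l → ∀ y ∈ U i j, Cen U y k l → y ∈ Q k l)
    (hD : D4 i j a b) (hD' : D4 i j k l) {x : G} (hx : x ∈ W a b)
    (hxK : x ∈ KK ε) : ∃ x' ∈ W k l, x' ∈ KK ε ∧ Same U i j x x' := by
  have hx' : x ∈ W b a := F.Wsym a b ▸ hx
  rcases eq_or_ne k b with rfl | hkb
  · exact move1 F hQ hD.c hD' hx' hxK
  · have hb : D4 i j b k := ⟨hD.ij, hD.il, hD'.ik, hD.jl, hD'.jk, hkb.symm⟩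
    obtain ⟨y, hy, hyK, h1⟩ := move1 F hQ hD.c hb hx' hxK
    obtain ⟨z, hz, hzK, h2⟩ := move1 F hQ hb.c hD' (F.Wsym b k ▸ hy) hyK
    exact ⟨z, hz, hzK, fun v hv => (h2 v hv).trans (h1 v hv)⟩

/-- a group of elements of `C(V)` with `[W', A] ≤ V` -/
theorem cm_hom {A : Subgroup G} (hAK : A ≤ KK ε) {y : G} (hA : ∀ c ∈ A, ∃ f, cm y c = ε f) {c d : G}
    (hc : c ∈ A) (hd : d ∈ A) : cm y (c * d) = cm y c * cm y d := by
  obtain ⟨f, hf⟩ := hA d hd
  rw [cm_mul_right, hf, cj_eq_of_comm (Ke (hAK hc) f)]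

theorem elem_of {A W' : Subgroup G} (hAK : A ≤ KK ε) (hA : ∀ y ∈ W', ∀ c ∈ A, ∃ f, cm y c = ε f) :
    ElemM W' A where
  sq := fun c hc => mem_centralizer_iff.2 fun y hy => by
    obtain ⟨f, hf⟩ := hA y hy c hc
    have h1 := cm_hom F hAK (hA y hy) hc hc
    rw [hf, F.esq, ← pow_two] at h1
    exact cm_one_iff.1 h1
  comm := fun c hc d hd => mem_centralizer_iff.2 fun y hy => by
    obtain ⟨f, hf⟩ := hA y hy c hc
    obtain ⟨g, hg⟩ := hA y hy d hd
    have h1 := cm_hom F hAK (hA y hy) hc hd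
    have h2 := cm_hom F hAK (hA y hy) hd hc
    have h3 : c * d * c⁻¹ * d⁻¹ ∈ A := mul_mem (mul_mem (mul_mem hc hd) (inv_mem hc)) (inv_mem hd)
    have h4 := cm_hom F hAK (hA y hy) h3 (mul_mem hd hc)
    have e : c * d * c⁻¹ * d⁻¹ * (d * c) = c * d := by group
    rw [e, h1, h2, hf, hg, F.ecomm g f] at h4
    exact cm_one_iff.1 (right_eq_mul.1 h4)

theorem cl_cm {A : Set G} {y : G} (hAK : ∀ c ∈ A, c ∈ KK ε) (hA : ∀ c ∈ A, ∃ f, cm y c = ε f) {c : G}
    (hc : c ∈ closure A) : ∃ f, cm y c = ε f := by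
  have hK : closure A ≤ KK ε := (closure_le _).2 hAK
  induction hc using closure_induction with
  | mem x hx => exact hA x hx
  | one => exact ⟨0, by rw [F.zero]; unfold cm; group⟩
  | mul x z hx _ h1 h2 =>
    obtain ⟨f, hf⟩ := h1
    obtain ⟨g, hg⟩ := h2
    exact ⟨f + g, by rw [cm_mul_right, hg, cj_eq_of_comm (Ke (hK hx) g), hf, F.add]⟩
  | inv x hx h1 =>
    obtain ⟨f, hf⟩ := h1
    refine ⟨f, ?_⟩
    have h2 : cm y (x * x⁻¹) = 1 := by rw [mul_inv_cancel]; unfold cm; group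
    rw [cm_mul_right, hf] at h2
    have h3 : cj x (cm y x⁻¹) = ε f := by
      rw [← F.einv f]
      exact (eq_inv_of_mul_eq_one_right h2)
    have h4 : cm y x⁻¹ = cj x⁻¹ (ε f) := by rw [← h3]; unfold cj; group
    rw [h4]
    exact cj_eq_of_comm (Ke (inv_mem (hK hx)) f)

/-- **(6)** -/
theorem six [Finite G] (hQ : ∀ {i j k l : Fin n}, D4 i j k l → ∀ y ∈ U i j, Cen U y k l → y ∈ Q k l)
    {k' l' : Fin n} (hp : D4 i j k l) (hq : D4 i j k' l') (hpq : D4 k l k' l') {W' R : Subgroup G}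
    (hW : ∀ y ∈ W', Un U i j y) (hNO : NoOverM W' R)
    (hpR : ∀ c ∈ W k l, c ∈ KK ε → c ∈ R) (hqR : ∀ c ∈ W k' l', c ∈ KK ε → c ∈ R) :
    ∀ y ∈ W', Cz ε W i j y := by
  intro y0 hy0 a b hD c hc hcK
  by_contra hne
  have hne' : cm y0 c ≠ 1 := fun h => hne (cm_one_iff.1 h).symm
  obtain ⟨cp, p1, p2, p3⟩ := move F hQ hD hp hc hcK
  obtain ⟨cq, q1, q2, q3⟩ := move F hQ hD hq hc hcK
  set A : Subgroup G := closure {cp, cq} with hA
  have hAR : A ≤ R := by
    rw [hA, closure_le]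
    rintro x (rfl | rfl)
    · exact hpR _ p1 p2
    · exact hqR _ q1 q2
  have hAK : A ≤ KK ε := by
    rw [hA, closure_le]
    rintro x (rfl | rfl)
    · exact p2
    · exact q2
  have hcp : cp ∈ A := subset_closure (Or.inl rfl)
  have hcq : cq ∈ A := subset_closure (Or.inr rfl)
  have vp : ∀ y ∈ W', cm y cp = 1 ∨ cm y cp = rr ε k l := fun y hy => phi F hQ hp (hW y hy) p1
  have vq : ∀ y ∈ W', cm y cq = 1 ∨ cm y cq = rr ε k' l' := fun y hy => phi F hQ hq (hW y hy) q1
  have hAV : ∀ y ∈ W', ∀ c ∈ A, ∃ f, cm y c = ε f := by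
    intro y hy c hc
    refine cl_cm F (A := {cp, cq}) ?_ ?_ hc
    · rintro x (rfl | rfl)
      · exact p2
      · exact q2
    · rintro x (rfl | rfl)
      · rcases vp y hy with h | h
        · exact ⟨0, by rw [h, F.zero]⟩
        · exact ⟨_, by rw [h, F.rr_eq]⟩
      · rcases vq y hy with h | h
        · exact ⟨0, by rw [h, F.zero]⟩
        · exact ⟨_, by rw [h, F.rr_eq]⟩
  have h1 := hNO A hAR (elem_of F hAK hAV)
  -- `|W'| ≤ 2 |C_{W'}(A)|`
  have h2 : Nat.card W' ≤ 2 * Nat.card ↥(W' ⊓ centralizer (A : Set G)) := by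
    let θ : W' →* G :=
      { toFun := fun y => cm (y : G) cp
        map_one' := by change cm (1 : G) cp = 1; unfold cm; group
        map_mul' := fun y z => by
          change cm ((y : G) * z) cp = cm (y : G) cp * cm (z : G) cp
          have hyK : (y : G) ∈ KK ε := F.UK hp.ij (hW y y.2).1
          obtain ⟨f, hf⟩ := hAV z z.2 cp hcp
          obtain ⟨g, hg⟩ := hAV y y.2 cp hcp
          rw [cm_mul_left, hf, cj_eq_of_comm (Ke hyK f), hg, F.ecomm] }
    have e1 : Nat.card W' = Nat.card θ.ker * Nat.card θ.range := by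
      rw [← Subgroup.card_mul_index θ.ker, Subgroup.index_ker]
    have e2 : Nat.card θ.range ≤ 2 := by
      have h3 : (θ.range : Set G) ⊆ {1, rr ε k l} := by
        rintro _ ⟨y, rfl⟩
        exact vp y y.2
      have h4 := Set.ncard_le_ncard h3 (Set.toFinite _)
      have h5 : ({1, rr ε k l} : Set G).ncard ≤ 2 := (Set.ncard_insert_le _ _).trans (by rw [Set.ncard_singleton])
      exact h4.trans h5
    have e3 : Nat.card θ.ker ≤ Nat.card ↥(W' ⊓ centralizer (A : Set G)) := by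
      refine Nat.card_le_card_of_injective (fun y => ⟨((y : W') : G), ?_⟩) ?_
      · have hy : cm ((y : W') : G) cp = 1 := y.2
        have hU := hW _ (y : W').2
        have hy' : cm ((y : W') : G) cq = 1 := (q3 _ hU).2 ((p3 _ hU).1 hy)
        refine mem_inf.2 ⟨(y : W').2, ?_⟩
        have h6 : A ≤ centralizer {((y : W') : G)} := by
          rw [hA, closure_le]
          rintro x (rfl | rfl)
          · exact mem_centralizer_singleton_iff.2 (cm_one_iff.1 hy).symm
          · exact mem_centralizer_singleton_iff.2 (cm_one_iff.1 hy').symm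
        refine mem_centralizer_iff.2 fun c hc => ?_
        exact mem_centralizer_singleton_iff.1 (h6 hc)
      · intro y z h
        have h7 : ((y : W') : G) = ((z : W') : G) :=
          congrArg (fun t : ↥(W' ⊓ centralizer (A : Set G)) => (t : G)) h
        exact Subtype.ext (Subtype.ext h7)
    calc Nat.card W' = Nat.card θ.ker * Nat.card θ.range := e1
      _ ≤ Nat.card ↥(W' ⊓ centralizer (A : Set G)) * 2 := Nat.mul_le_mul e3 e2
      _ = _ := mul_comm _ _
  -- `4 |C_A(W')| ≤ |A|`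
  have h3 : 4 * Nat.card ↥(A ⊓ centralizer (W' : Set G)) ≤ Nat.card A := by
    let θ : A →* G :=
      { toFun := fun c => cm y0 c
        map_one' := by change cm y0 (1 : G) = 1; unfold cm; group
        map_mul' := fun c d => cm_hom F hAK (hAV y0 hy0) c.2 d.2 }
    have e1 : Nat.card A = Nat.card θ.ker * Nat.card θ.range := by
      rw [← Subgroup.card_mul_index θ.ker, Subgroup.index_ker]
    have e3 : Nat.card ↥(A ⊓ centralizer (W' : Set G)) ≤ Nat.card θ.ker := by
      refine Nat.card_le_card_of_injective (fun c => ⟨⟨(c : G), c.2.1⟩, ?_⟩) ?_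
      · change cm y0 (c : G) = 1
        exact cm_one_iff.2 (mem_centralizer_iff.1 c.2.2 y0 hy0)
      · intro c d h
        exact Subtype.ext (congrArg (fun t => ((t : A) : G)) (congrArg Subtype.val h))
    have hU0 := hW y0 hy0
    have r1 : rr ε k l ∈ θ.range := by
      refine ⟨⟨cp, hcp⟩, ?_⟩
      exact (vp y0 hy0).resolve_left fun h => hne' ((p3 y0 hU0).1 h)
    have r2 : rr ε k' l' ∈ θ.range := by
      refine ⟨⟨cq, hcq⟩, ?_⟩
      exact (vq y0 hy0).resolve_left fun h => hne' ((q3 y0 hU0).1 h)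
    have e2 : 4 ≤ Nat.card θ.range := by
      have s1 : ∀ s : ZMod 2, ε (s • (Pi.single k 1 + Pi.single l 1 : Fin n → ZMod 2)) ∈ θ.range := by
        intro s
        rcases z2c s with rfl | rfl
        · rw [zero_smul, F.zero]; exact one_mem _
        · rw [one_smul, ← F.rr_eq]; exact r1
      have s2 : ∀ s : ZMod 2, ε (s • (Pi.single k' 1 + Pi.single l' 1 : Fin n → ZMod 2)) ∈ θ.range := by
        intro s
        rcases z2c s with rfl | rfl
        · rw [zero_smul, F.zero]; exact one_mem _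
        · rw [one_smul, ← F.rr_eq]; exact r2
      let f : ZMod 2 × ZMod 2 → Fin n → ZMod 2 := fun t =>
        t.1 • (Pi.single k 1 + Pi.single l 1) + t.2 • (Pi.single k' 1 + Pi.single l' 1)
      have fk : ∀ t, f t k = t.1 := fun t => by
        change t.1 • (Pi.single k 1 + Pi.single l 1 : Fin n → ZMod 2) k +
          t.2 • (Pi.single k' 1 + Pi.single l' 1 : Fin n → ZMod 2) k = t.1
        rw [Pi.add_apply, Pi.add_apply, Pi.single_eq_same, Pi.single_eq_of_ne hpq.ij,
          Pi.single_eq_of_ne hpq.ik, Pi.single_eq_of_ne hpq.il, add_zero, add_zero, smul_zero, add_zero,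
          smul_eq_mul, mul_one]
      have fk' : ∀ t, f t k' = t.2 := fun t => by
        change t.1 • (Pi.single k 1 + Pi.single l 1 : Fin n → ZMod 2) k' +
          t.2 • (Pi.single k' 1 + Pi.single l' 1 : Fin n → ZMod 2) k' = t.2
        rw [Pi.add_apply, Pi.add_apply, Pi.single_eq_same, Pi.single_eq_of_ne hpq.kl,
          Pi.single_eq_of_ne hpq.ik.symm, Pi.single_eq_of_ne hpq.jk.symm, add_zero, add_zero, smul_zero, zero_add,
          smul_eq_mul, mul_one]
      have fi : ∀ t, f t i = 0 := fun t => by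
        change t.1 • (Pi.single k 1 + Pi.single l 1 : Fin n → ZMod 2) i +
          t.2 • (Pi.single k' 1 + Pi.single l' 1 : Fin n → ZMod 2) i = 0
        rw [Pi.add_apply, Pi.add_apply, Pi.single_eq_of_ne hp.ik, Pi.single_eq_of_ne hp.il,
          Pi.single_eq_of_ne hq.ik, Pi.single_eq_of_ne hq.il, add_zero, smul_zero, smul_zero, add_zero]
      have inj : Function.Injective fun t => (⟨ε (f t), by
          change ε (t.1 • (Pi.single k 1 + Pi.single l 1) + t.2 • (Pi.single k' 1 + Pi.single l' 1)) ∈ _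
          rw [F.add]
          exact mul_mem (s1 _) (s2 _)⟩ : θ.range) := by
        intro s t h
        have h4 : ε (f s) = ε (f t) := congrArg Subtype.val h
        have h5 : ∀ x, f s x = f s i ↔ f t x = f t i := by
          intro x
          rw [← F.lab_e, ← F.lab_e, h4]
        have h6 := h5 k
        have h7 := h5 k'
        rw [fk, fk, fi, fi] at h6
        rw [fk', fk', fi, fi] at h7
        have key : ∀ a b : ZMod 2, (a = 0 ↔ b = 0) → a = b := by decide
        exact Prod.ext (key _ _ h6) (key _ _ h7)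
      have h4 := Nat.card_le_card_of_injective _ inj
      rwa [Nat.card_prod, Nat.card_zmod] at h4
    calc 4 * Nat.card ↥(A ⊓ centralizer (W' : Set G)) ≤ Nat.card θ.range * Nat.card θ.ker := Nat.mul_le_mul e2 e3
      _ = Nat.card A := by rw [e1, mul_comm]
  have p1 : 0 < Nat.card ↥(A ⊓ centralizer (W' : Set G)) := Nat.card_pos
  have p2 : 0 < Nat.card ↥(W' ⊓ centralizer (A : Set G)) := Nat.card_pos
  set x := Nat.card ↥(A ⊓ centralizer (W' : Set G))
  set y := Nat.card ↥(W' ⊓ centralizer (A : Set G))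
  have h4 : 4 * x * y ≤ 2 * y * x := (Nat.mul_le_mul_right y h3).trans (h1.trans (Nat.mul_le_mul_right x h2))
  have h5 : 0 < x * y := Nat.mul_pos p1 p2
  nlinarith

/-- **(6), (7)** -/
theorem main [Finite G] (hC : ThC ε U)
    (hQ : ∀ {i j k l : Fin n}, D4 i j k l → ∀ y ∈ U i j, Cen U y k l → y ∈ Q k l)
    {k' l' : Fin n} (hp : D4 i j k l) (hq : D4 i j k' l') (hpq : D4 k l k' l') {W' R : Subgroup G}
    (hW : ∀ y ∈ W', Un U i j y) (hNO : NoOverM W' R)
    (hpR : ∀ c ∈ W k l, c ∈ KK ε → c ∈ R) (hqR : ∀ c ∈ W k' l', c ∈ KK ε → c ∈ R) :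
    ∀ y ∈ W', ∃ x, y = ε x := fun y hy =>
  seven F hC hQ hp.ij hp.ik.symm hp.jk.symm (hW y hy) (six F hQ hp hq hpq hW hNO hpR hqR y hy)

end Cfsg.Agent.Omega.NSix.HTwo.Star
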