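import Cfsg.Agent.Omega.NSix.Engine.Inst
import Cfsg.Agent.Omega.NSix.CosetAct
import Cfsg.Agent.Omega.NSix.Norm
import Cfsg.Agent.ZN.ChoiceNse
import Cfsg.Agent.Omega.MinPar

/-!
# OMEGA N6, #18323 (helper480) (1): LEMMA 2 and its consequences  (helper537)

`XX ε i j = ⟨U_ik : k ≠ i, j⟩`, `V0 ε i j = V ∩ r_ij^⊥ = ⟨z_k : k ≠ i, j⟩`, `T₁ = S ∩ C_G(r_ij)`.

* `lem2` : `g ∈ C_G(r_ij)`, `XX` normalises `V0^g` implies `g` normalises `V0`;
* `syl` : `T₁` is a Sylow 2-subgroup of `C_G(r_ij)`, with normaliser in `N_G(V)`;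
* `not_le_o2` : `R` a minimal parabolic over `T₁` in `C_G(r_ij)`, not in `N_G(V)`: `XX` is not in `O₂(R)`.
-/

set_option autoImplicit false
set_option linter.unusedSectionVars false

namespace Cfsg.Agent.Omega.NSix.HTwo.LemTwo

open Subgroup Cfsg
open Cfsg.Agent.ZN (o2 zc zl)
open Cfsg.Agent.ZN.ChoiceSit (Syl)
open Cfsg.Agent.MinSimple.VModule (o2_le o2_isPGroup le_normalizer_o2 le_o2)
open Cfsg.Agent.Omega.S5.Def Cfsg.Agent.Omega.S5.Syl
open Cfsg.Agent.Omega.NSix.Base Cfsg.Agent.Omega.NSix.Basic Cfsg.Agent.Omega.NSix.Engine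
open Cfsg.Agent.Omega.NSix.CosetAct (V0 mem_V0)
open Cfsg.Agent.Omega.TTn.Di (cm cj)
open Cfsg.Agent.Omega.TTn Cfsg.Agent.Omega
open Cfsg.Agent.MinSimple.MinParabolic (IsMinPar)

universe u

/-! ### 2-groups of permutations -/

/-- A 2-group which moves `a`: there are two halves `ν`, `ν'` of the orbit of `a`, permuted by the group. -/
theorem exists_half {n : ℕ} {Y : Type*} [Group Y] [Finite Y] (hY : IsPGroup 2 Y)
    (f : Y →* Equiv.Perm (Fin n)) {a : Fin n} {y0 : Y} (hy0 : f y0 a ≠ a) :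
    ∃ ν ν' : Fin n → ZMod 2, ν a = 1 ∧ ν' a = 0 ∧
      (∀ b, (∀ y, f y a ≠ b) → ν b = 0 ∧ ν' b = 0) ∧
      (∀ y, ν ∘ (f y).symm = ν ∨ ν ∘ (f y).symm = ν') ∧ ∃ y, ν ∘ (f y).symm = ν' := by
  classical
  have hf : Fact (Nat.Prime 2) := ⟨Nat.prime_two⟩
  let H : Subgroup Y :=
    { carrier := {y | f y a = a}
      one_mem' := by
        change f 1 a = a
        rw [map_one]; rfl
      mul_mem' := by
        intro x y hx hy
        change f (x * y) a = a
        rw [map_mul, Equiv.Perm.mul_apply]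
        have h1 : f y a = a := hy
        have h2 : f x a = a := hx
        rw [h1, h2]
      inv_mem' := by
        intro x hx
        change f x⁻¹ a = a
        have h2 : f x a = a := hx
        rw [map_inv, Equiv.Perm.inv_eq_iff_eq, h2] }
  have hH : ∀ y, y ∈ H ↔ f y a = a := fun y => Iff.rfl
  obtain ⟨s, hs⟩ := IsPGroup.iff_card.1 hY
  obtain ⟨t, ht⟩ := IsPGroup.iff_card.1 (hY.to_subgroup H)
  have hlt : t < s := by
    by_contra hcon
    push Not at hcon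
    have h1 : Nat.card Y ≤ Nat.card H := by
      rw [hs, ht]; exact Nat.pow_le_pow_right (by norm_num) hcon
    have h2 : H = ⊤ := (Subgroup.card_eq_iff_eq_top H).1 (le_antisymm (Subgroup.card_le_card_group H) h1)
    exact hy0 ((hH y0).1 (h2 ▸ mem_top y0))
  obtain ⟨M, hM, hHM⟩ := Sylow.exists_subgroup_card_pow_prime_le 2 (m := s - 1)
    (by rw [hs]; exact pow_dvd_pow _ (by omega)) H ht (by omega)
  have hM2 : M.index = 2 := by
    have h1 := M.card_mul_index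
    rw [hM, hs] at h1
    have h2 : (2 : ℕ) ^ s = 2 ^ (s - 1) * 2 := by rw [← pow_succ]; congr 1; omega
    rw [h2] at h1
    exact Nat.eq_of_mul_eq_mul_left (by positivity) h1
  have hmul : ∀ x y, x * y ∈ M ↔ (x ∈ M ↔ y ∈ M) := fun x y => Subgroup.mul_mem_iff_of_index_two hM2
  let ν : Fin n → ZMod 2 := fun b => if ∃ y ∈ M, f y a = b then 1 else 0
  let ν' : Fin n → ZMod 2 := fun b => if ∃ y, y ∉ M ∧ f y a = b then 1 else 0
  have hν : ∀ b, ν b = if ∃ y ∈ M, f y a = b then 1 else 0 := fun b => rfl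
  have hν' : ∀ b, ν' b = if ∃ y, y ∉ M ∧ f y a = b then 1 else 0 := fun b => rfl
  have hin : ∀ y ∈ M, ν ∘ (f y).symm = ν := by
    intro y hy
    funext b
    rw [Function.comp_apply, hν, hν]
    refine if_congr ⟨?_, ?_⟩ rfl rfl
    · rintro ⟨z, hz, h1⟩
      refine ⟨y * z, mul_mem hy hz, ?_⟩
      rw [map_mul, Equiv.Perm.mul_apply, h1, Equiv.apply_symm_apply]
    · rintro ⟨z, hz, h1⟩
      refine ⟨y⁻¹ * z, mul_mem (inv_mem hy) hz, ?_⟩
      rw [map_mul, Equiv.Perm.mul_apply, h1, map_inv]; rfl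
  have hout : ∀ y, y ∉ M → ν ∘ (f y).symm = ν' := by
    intro y hy
    funext b
    rw [Function.comp_apply, hν, hν']
    refine if_congr ⟨?_, ?_⟩ rfl rfl
    · rintro ⟨z, hz, h1⟩
      refine ⟨y * z, fun h2 => hy (((hmul _ _).1 h2).2 hz), ?_⟩
      rw [map_mul, Equiv.Perm.mul_apply, h1, Equiv.apply_symm_apply]
    · rintro ⟨z, hz, h1⟩
      refine ⟨y⁻¹ * z, (hmul _ _).2 ⟨fun h2 => absurd (by simpa using inv_mem h2) hy, fun h2 => absurd h2 hz⟩, ?_⟩
      rw [map_mul, Equiv.Perm.mul_apply, h1, map_inv]; rfl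
  refine ⟨ν, ν', ?_, ?_, ?_, ?_, ?_⟩
  · rw [hν, if_pos]
    exact ⟨1, one_mem _, by rw [map_one]; rfl⟩
  · rw [hν', if_neg]
    rintro ⟨y, hy, h1⟩
    exact hy (hHM ((hH y).2 h1))
  · intro b hb
    rw [hν, hν', if_neg, if_neg]
    · exact ⟨rfl, rfl⟩
    · rintro ⟨y, -, h1⟩; exact hb y h1
    · rintro ⟨y, -, h1⟩; exact hb y h1
  · intro y
    by_cases hy : y ∈ M
    · exact Or.inl (hin y hy)
    · exact Or.inr (hout y hy)
  · obtain ⟨y, hy⟩ : ∃ y, y ∉ M := by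
      by_contra hcon
      push Not at hcon
      have h1 : M = ⊤ := (eq_top_iff' M).2 hcon
      rw [h1, index_top] at hM2
      exact absurd hM2 (by norm_num)
    exact ⟨y, hout y hy⟩

/-! ### `X₀` -/

variable {G : Type u} [Group G] {n : ℕ} {V P : Subgroup G} {ε : (Fin n → ZMod 2) → G}

/-- `X₀ = ⟨U_ik : k ≠ i, j⟩` -/
def XX (ε : (Fin n → ZMod 2) → G) (i j : Fin n) : Subgroup G :=
  closure {x | ∃ k, k ≠ i ∧ k ≠ j ∧ x ∈ UU ε i k}

theorem mem_XX {i j k : Fin n} (hki : k ≠ i) (hkj : k ≠ j) {x : G} (hx : x ∈ UU ε i k) : x ∈ XX ε i j :=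
  subset_closure ⟨k, hki, hkj, hx⟩

theorem KK_le_NN (i j : Fin n) : KK ε ≤ NN ε i j := by
  intro g hg
  rw [mem_NN]
  have h1 := rr_conj (mem_KK.1 hg) i j
  exact mul_inv_eq_iff_eq_mul.1 h1

/-- different pairs have different vectors (five labels) -/
theorem rr_ne' {L : Subgroup G} (h : EvenSet n V L ε) (hn : 5 ≤ n)
    {i j k l : Fin n} (hij : i ≠ j) (hki : k ≠ i) (hli : l ≠ i) : rr ε i j ≠ rr ε k l := by
  intro h0
  have hrr : ∀ i j : Fin n, rr ε i j = ε (Pi.single i 1 + Pi.single j 1) := fun i j => (h.add _ _).symm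
  rw [hrr, hrr, h.eq_iff] at h0
  obtain ⟨q, q1, q2, q3, q4⟩ := exists_fifth hn i j k l
  rcases h0 with h0 | h0
  · have h1 := congrFun h0 i
    rw [Pi.add_apply, Pi.add_apply, Pi.single_eq_same, Pi.single_eq_of_ne hij, Pi.single_eq_of_ne hki.symm,
      Pi.single_eq_of_ne hli.symm, add_zero, add_zero] at h1
    exact one_ne_zero h1
  · have h1 := congrFun h0 q
    rw [Pi.add_apply, Pi.add_apply, Pi.add_apply, Pi.single_eq_of_ne q1, Pi.single_eq_of_ne q2,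
      Pi.single_eq_of_ne q3, Pi.single_eq_of_ne q4, Pi.one_apply, add_zero, zero_add] at h1
    exact zero_ne_one h1

/-- an element of `C_G(r_ij)` permuting the labels preserves the pair -/
theorem pair_of {L : Subgroup G} (h : EvenSet n V L ε) (hn : 5 ≤ n) {i j : Fin n} (hij : i ≠ j) {g : G}
    {σ : Equiv.Perm (Fin n)} (hσ : Acts ε g σ) (hg : g ∈ NN ε i j) {k : Fin n} (hki : k ≠ i) (hkj : k ≠ j) :
    σ k ≠ i ∧ σ k ≠ j := by
  have h1 := rr_conj hσ i j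
  rw [mem_NN'.1 hg] at h1
  constructor
  · intro h2
    have e1 : σ i ≠ σ k := σ.injective.ne hki.symm
    have e2 : σ j ≠ σ k := σ.injective.ne hkj.symm
    rw [h2] at e1 e2
    exact rr_ne' h hn hij e1 e2 h1
  · intro h2
    rw [rr_symm h] at h1
    have e1 : σ i ≠ σ k := σ.injective.ne hki.symm
    have e2 : σ j ≠ σ k := σ.injective.ne hkj.symm
    rw [h2] at e1 e2
    exact rr_ne' h hn hij.symm e1 e2 h1

section

variable (h : Engine.Hyp V P ε) {i j : Fin n}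
include h

theorem XX_le_KK : XX ε i j ≤ KK ε := by
  unfold XX
  rw [closure_le]
  rintro x ⟨k, hki, -, hx⟩
  exact h.UK hki.symm hx

theorem KK_eq : KK ε = centralizer (V : Set G) := by
  ext g
  rw [mem_KK, h.ev.acts_one_iff]

theorem V0_le : V0 ε i j ≤ V := by
  unfold V0
  rw [closure_le]
  rintro x ⟨k, -, -, rfl⟩
  exact zz_mem h.ev k

omit h in
theorem V0_le_UU : V0 ε i j ≤ UU ε i j := by
  unfold V0
  rw [closure_le]
  rintro x ⟨k, hki, hkj, rfl⟩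
  exact zz_mem_UU hki hkj

theorem UU_two {a b : Fin n} (hab : a ≠ b) : IsPGroup 2 (UU ε a b) := by
  intro u
  refine ⟨1, Subtype.ext ?_⟩
  rw [pow_one, pow_two]
  exact h.Usq hab u.2

theorem UU_le_o2 [Finite G] {a b : Fin n} (hab : a ≠ b) : UU ε a b ≤ o2 (KK ε) := by
  refine le_o2 (h.UK hab) (UU_two h hab) fun g hg => DiCoreAbs.mem_norm_of fun x hx => ?_
  have h1 := UU_conj (mem_KK.1 hg) hx
  rwa [Equiv.Perm.one_apply, Equiv.Perm.one_apply] at h1

theorem XX_le_o2 [Finite G] : XX ε i j ≤ o2 (KK ε) := by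
  unfold XX
  rw [closure_le]
  rintro x ⟨k, hki, -, hx⟩
  exact UU_le_o2 h hki.symm hx

theorem XX_two [Finite G] : IsPGroup 2 (XX ε i j) := (o2_isPGroup (KK ε)).to_le (XX_le_o2 h)

/-- an element permuting the labels and normalising the pair normalises `V0` -/
theorem norm_V0 [Finite G] {g : G} {σ : Equiv.Perm (Fin n)} (hg : Acts ε g σ)
    (hσ : ∀ k, k ≠ i → k ≠ j → σ k ≠ i ∧ σ k ≠ j) : g ∈ normalizer (V0 ε i j : Set G) := by
  refine DiCoreAbs.mem_norm_of fun x hx => ?_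
  unfold V0 at hx
  induction hx using closure_induction with
  | mem x hx =>
    obtain ⟨k, hki, hkj, rfl⟩ := hx
    rw [zz_conj hg]
    exact subset_closure ⟨σ k, (hσ k hki hkj).1, (hσ k hki hkj).2, rfl⟩
  | one => rw [mul_one, mul_inv_cancel]; exact one_mem _
  | mul x y _ _ hx hy =>
    have : g * (x * y) * g⁻¹ = (g * x * g⁻¹) * (g * y * g⁻¹) := by group
    rw [this]; exact mul_mem hx hy
  | inv x _ hx =>
    have : g * x⁻¹ * g⁻¹ = (g * x * g⁻¹)⁻¹ := by group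
    rw [this]; exact inv_mem hx

/-- **LEMMA 2** of #18323 -/
theorem lem2 [Finite G] (hL : EvenSet n V (normalizer (V : Set G)) ε) (hij : i ≠ j)
    (h1 : ∀ u ∈ UU ε i j, ∀ a ∈ UU ε i j, (∀ k, k ≠ i → k ≠ j → ∀ y ∈ UU ε i k, cm u y = 1 ∨ cm u y = a) →
      ∃ x, u = ε x)
    (h2 : NN ε i j ⊓ normalizer (V0 ε i j : Set G) ≤ normalizer (V : Set G))
    {g : G} (hg : g ∈ NN ε i j) (hX : ∀ x ∈ XX ε i j, g⁻¹ * x * g ∈ normalizer (V0 ε i j : Set G)) :
    g ∈ normalizer (V0 ε i j : Set G) := by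
  set Y : Subgroup G := (XX ε i j).map (MulAut.conj g⁻¹).toMonoidHom with hY
  have hmem : ∀ x ∈ XX ε i j, g⁻¹ * x * g ∈ Y := by
    intro x hx
    refine ⟨x, hx, ?_⟩
    change g⁻¹ * x * g⁻¹⁻¹ = _
    rw [inv_inv]
  have hYN : Y ≤ NN ε i j := by
    rintro _ ⟨x, hx, rfl⟩
    exact mul_mem (mul_mem (inv_mem hg) (KK_le_NN i j (XX_le_KK h hx))) (inv_mem (inv_mem hg))
  have hYL : Y ≤ normalizer (V : Set G) := by
    rintro _ ⟨x, hx, rfl⟩
    refine h2 ⟨hYN ⟨x, hx, rfl⟩, ?_⟩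
    change g⁻¹ * x * g⁻¹⁻¹ ∈ _
    rw [inv_inv]
    exact hX x hx
  have hYp : IsPGroup 2 Y := (XX_two h).map _
  let f : Y →* Equiv.Perm (Fin n) := (hL.hom h.n3).comp (Subgroup.inclusion hYL)
  have hf : ∀ y : Y, Acts ε (y : G) (f y) := fun y => hL.acts_hom h.n3 (Subgroup.inclusion hYL y)
  have hfij : ∀ (y : Y) {k : Fin n}, k ≠ i → k ≠ j → f y k ≠ i ∧ f y k ≠ j := fun y k hki hkj =>
    pair_of h.ev h.n5 hij (hf y) (hYN y.2) hki hkj
  -- the action is trivial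
  have htriv : ∀ a, a ≠ i → a ≠ j → ∀ y : Y, f y a = a := by
    intro a hai haj y0
    by_contra hy0
    obtain ⟨ν, ν', e1, e2, e3, e4, y1, e5⟩ := exists_half hYp f hy0
    obtain ⟨i1, i2⟩ := e3 i fun y => (hfij y hai haj).1
    obtain ⟨j1, j2⟩ := e3 j fun y => (hfij y hai haj).2
    have hc : (ν + ν') i = (ν + ν') j := by
      rw [Pi.add_apply, Pi.add_apply, i1, i2, j1, j2]
    obtain ⟨x, hx⟩ := h1 (g * ε ν * g⁻¹) (UU_normal hg ((h.eU hij ν).2 (by rw [i1, j1])))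
      (g * ε (ν + ν') * g⁻¹) (UU_normal hg ((h.eU hij _).2 hc)) (by
      intro k hki hkj y hy
      have hy' := hmem y (mem_XX hki hkj hy)
      have h3 := hf ⟨_, hy'⟩ ν
      have h4 : cm (g * ε ν * g⁻¹) y = g * (ε ν * (g⁻¹ * y * g * ε ν * (g⁻¹ * y * g)⁻¹)⁻¹) * g⁻¹ := by
        unfold cm; group
      rw [h4]
      change g⁻¹ * y * g * ε ν * (g⁻¹ * y * g)⁻¹ = _ at h3
      rw [h3]
      rcases e4 ⟨_, hy'⟩ with h5 | h5
      · left
        rw [h5]; group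
      · right
        rw [h5, h.ev.inv, ← h.ev.add])
    -- `Y` centralises `ε ν`
    have h3 : ∀ y : Y, (y : G) * ε ν * (y : G)⁻¹ = ε ν := by
      rintro ⟨_, x', hx', rfl⟩
      change g⁻¹ * x' * g⁻¹⁻¹ * ε ν * (g⁻¹ * x' * g⁻¹⁻¹)⁻¹ = ε ν
      have h4 := mem_KK'.1 (XX_le_KK h hx') x
      rw [← hx] at h4
      calc g⁻¹ * x' * g⁻¹⁻¹ * ε ν * (g⁻¹ * x' * g⁻¹⁻¹)⁻¹
          = g⁻¹ * (x' * (g * ε ν * g⁻¹)) * x'⁻¹ * g := by group
        _ = ε ν := by rw [h4]; group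
    have h4 := hf y1 ν
    rw [h3, e5, h.ev.eq_iff] at h4
    rcases h4 with h4 | h4
    · have h5 := congrFun h4 a
      rw [e1, e2] at h5
      exact one_ne_zero h5
    · have h5 := congrFun h4 i
      rw [Pi.add_apply, i1, i2, Pi.one_apply, zero_add] at h5
      exact zero_ne_one h5
  -- `Y` centralises `V0`
  have hcen : ∀ y ∈ Y, ∀ v ∈ V0 ε i j, y * v = v * y := by
    intro y hy v hv
    unfold V0 at hv
    induction hv using closure_induction with
    | mem x hx =>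
      obtain ⟨k, hki, hkj, rfl⟩ := hx
      have h3 := zz_conj (hf ⟨y, hy⟩) k
      rw [htriv k hki hkj] at h3
      exact mul_inv_eq_iff_eq_mul.1 h3
    | one => rw [mul_one, one_mul]
    | mul x x' _ _ hx hx' => rw [← mul_assoc, hx, mul_assoc, hx', mul_assoc]
    | inv x _ hx => rw [mul_inv_eq_iff_eq_mul, mul_assoc, hx, inv_mul_cancel_left]
  refine DiCoreAbs.mem_norm_of fun v hv => ?_
  obtain ⟨w, F⟩ := h.exists_fr
  obtain ⟨x, hxi, hxj, hx⟩ := F.four_all h.thC hij (UU_normal hg (V0_le_UU hv)) (by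
    intro k hki hkj y hy
    have h3 := hcen _ (hmem y (mem_XX hki hkj hy)) v hv
    calc g * v * g⁻¹ * y = g * (v * (g⁻¹ * y * g)) * g⁻¹ := by group
      _ = g * (g⁻¹ * y * g * v) * g⁻¹ := by rw [h3]
      _ = y * (g * v * g⁻¹) := by group)
  rw [hx]
  exact mem_V0 h.ev (by rw [hxi, hxj])

end

/-! ### The order of `C_S(r_ab)` -/

section card

variable {m : ℕ} {S : Sylow 2 G} {ε : (Fin (2 ^ m + 1) → ZMod 2) → G}

/-- `|C_S(z_a)| 2^m ≤ |S|` for `a ≠ 0`. -/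
theorem card_fix [Finite G] (hm : 2 ≤ m) (ev : EvenSet (2 ^ m + 1) V P ε) (hSP : (S : Subgroup G) ≤ P)
    (h0 : Fix0 ε (S : Subgroup G)) {a : Fin (2 ^ m + 1)} (ha : a ≠ 0) :
    Nat.card ↥((S : Subgroup G) ⊓ centralizer ({zz ε a} : Set G)) * 2 ^ m ≤
      Nat.card (S : Subgroup G) := by
  classical
  have hS2 : ¬ 2 ∣ (S : Subgroup G).relIndex P := MinSimple.Basic.not_dvd_relIndex S hSP
  have htr := fun (c : {c : Fin (2 ^ m + 1) // c ≠ 0}) =>
    S5.Syl.trans (by omega) ev hSP hS2 h0 ha c.2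
  choose s hs σ hσ hσa using htr
  have h1 : Nat.card (↥((S : Subgroup G) ⊓ centralizer ({zz ε a} : Set G)) ×
      {c : Fin (2 ^ m + 1) // c ≠ 0}) ≤ Nat.card (S : Subgroup G) := by
    refine Nat.card_le_card_of_injective (fun p => (⟨s p.2 * (p.1 : G),
      mul_mem (hs p.2) p.1.2.1⟩ : (S : Subgroup G))) ?_
    rintro ⟨y, c⟩ ⟨y', c'⟩ hyy
    have h2 : s c * (y : G) = s c' * (y' : G) := congrArg Subtype.val hyy
    have h3 : ∀ (c : {c : Fin (2 ^ m + 1) // c ≠ 0})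
        (y : ↥((S : Subgroup G) ⊓ centralizer ({zz ε a} : Set G))),
        (s c * (y : G)) * zz ε a * (s c * (y : G))⁻¹ = zz ε c := by
      intro c y
      have h4 := mem_centralizer_singleton_iff.1 y.2.2
      calc (s c * (y : G)) * zz ε a * (s c * (y : G))⁻¹
          = s c * ((y : G) * zz ε a) * (y : G)⁻¹ * (s c)⁻¹ := by group
        _ = s c * zz ε a * (s c)⁻¹ := by rw [h4]; group
        _ = zz ε c := by rw [zz_conj (hσ c), hσa]
    have h5 : zz ε (c : Fin (2 ^ m + 1)) = zz ε c' := by rw [← h3 c y, ← h3 c' y', h2]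
    have h6 : c = c' := Subtype.ext (ev.single_inj (three_le (by omega)) h5)
    subst h6
    exact Prod.ext (Subtype.ext (mul_left_cancel h2)) rfl
  rw [Nat.card_prod] at h1
  have h3 : Nat.card {x : Fin (2 ^ m + 1) // x ≠ 0} = 2 ^ m := by
    rw [Nat.card_eq_fintype_card, Fintype.card_subtype_compl]
    simp
  rwa [h3] at h1

theorem card_le_two' [Finite G] {A C : Subgroup G} {c : G} (h : ∀ y ∈ A, y ∉ C → c⁻¹ * y ∈ C) :
    Nat.card A ≤ 2 * Nat.card C := by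
  classical
  have h1 : Nat.card A ≤ Nat.card (C × Bool) := by
    refine Nat.card_le_card_of_injective (fun y : A => if hy : (y : G) ∈ C then ((⟨y, hy⟩ : C), false)
      else ((⟨c⁻¹ * y, h y y.2 hy⟩ : C), true)) ?_
    intro y z hyz
    by_cases hy : (y : G) ∈ C
    · by_cases hz : (z : G) ∈ C
      · simp only [dif_pos hy, dif_pos hz, Prod.mk.injEq, Subtype.mk.injEq, and_true] at hyz
        exact Subtype.ext hyz
      · simp [dif_pos hy, dif_neg hz] at hyz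
    · by_cases hz : (z : G) ∈ C
      · simp [dif_neg hy, dif_pos hz] at hyz
      · simp only [dif_neg hy, dif_neg hz, Prod.mk.injEq, Subtype.mk.injEq, and_true] at hyz
        exact Subtype.ext (mul_left_cancel hyz)
  rwa [Nat.card_prod, Nat.card_eq_fintype_card (α := Bool), Fintype.card_bool, mul_comm] at h1

/-- `|C_S(r_ab)| 2^(m-1) ≤ |S|`. -/
theorem card_rr [Finite G] (hm : 2 ≤ m) (ev : EvenSet (2 ^ m + 1) V P ε) (hSP : (S : Subgroup G) ≤ P)
    (h0 : Fix0 ε (S : Subgroup G)) {a b : Fin (2 ^ m + 1)} (hab : a ≠ b) :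
    Nat.card ↥((S : Subgroup G) ⊓ centralizer ({rr ε a b} : Set G)) * 2 ^ (m - 1) ≤
      Nat.card (S : Subgroup G) := by
  classical
  wlog ha : a ≠ 0 generalizing a b
  · rw [rr_symm ev]
    exact this hab.symm fun hb => ha fun h0 => hab (h0.trans hb.symm)
  have h1 := card_fix hm ev hSP h0 ha
  have hm2 : (2 : ℕ) ^ m = 2 * 2 ^ (m - 1) := by
    rw [← pow_succ']; congr 1; omega
  set T := (S : Subgroup G) ⊓ centralizer ({rr ε a b} : Set G) with hT
  set U := (S : Subgroup G) ⊓ centralizer ({zz ε a} : Set G) with hU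
  have hfix : ∀ {g : G} {σ : Equiv.Perm (Fin (2 ^ m + 1))}, g ∈ (S : Subgroup G) → Acts ε g σ →
      σ a = a → g ∈ U := by
    intro g σ hg hσ h2
    refine ⟨hg, mem_centralizer_singleton_iff.2 ?_⟩
    have h3 := zz_conj hσ a
    rw [h2] at h3
    exact mul_inv_eq_iff_eq_mul.1 h3
  have hpair : ∀ {g : G} {σ : Equiv.Perm (Fin (2 ^ m + 1))}, Acts ε g σ → g ∈ T → σ a = a ∨ σ a = b := by
    intro g σ hσ hg
    by_contra hcon
    push Not at hcon
    have h3 := rr_conj hσ a b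
    have h4 := mem_centralizer_singleton_iff.1 hg.2
    rw [h4, mul_inv_cancel_right] at h3
    exact rr_ne' ev (five_le hm) (σ.injective.ne hab) (Ne.symm hcon.1) (Ne.symm hcon.2) h3.symm
  have h2 : Nat.card T ≤ 2 * Nat.card U := by
    by_cases hTU : T ≤ U
    · have := Subgroup.card_le_of_le hTU
      omega
    · obtain ⟨c, hc, hcU⟩ := Set.not_subset.1 hTU
      replace hc : c ∈ T := hc
      obtain ⟨τ, hτ⟩ := ev.perm c (hSP hc.1)
      have hτa : τ a = b := by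
        rcases hpair hτ hc with h3 | h3
        · exact absurd (hfix hc.1 hτ h3) hcU
        · exact h3
      refine card_le_two' (c := c) fun y hy hyU => ?_
      obtain ⟨σ, hσ⟩ := ev.perm y (hSP hy.1)
      have hσa : σ a = b := by
        rcases hpair hσ hy with h3 | h3
        · exact absurd (hfix hy.1 hσ h3) hyU
        · exact h3
      refine hfix (mul_mem (inv_mem hc.1) hy.1) (hτ.inv.mul hσ) ?_
      rw [Equiv.Perm.mul_apply, hσa, ← hτa]
      exact τ.symm_apply_apply a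
  rw [hm2] at h1
  have h4 : Nat.card T * 2 ^ (m - 1) ≤ 2 * Nat.card U * 2 ^ (m - 1) := Nat.mul_le_mul_right _ h2
  calc Nat.card T * 2 ^ (m - 1) ≤ 2 * Nat.card U * 2 ^ (m - 1) := h4
    _ = Nat.card U * (2 * 2 ^ (m - 1)) := by ring
    _ ≤ _ := h1

/-- The input: `S` fixes the label `0` and induces `(i j)`; LEMMA 1; `N_N(V0) ≤ N_G(V)` (#16633 (1)). -/
structure In (S : Sylow 2 G) (V P : Subgroup G) (ε : (Fin (2 ^ m + 1) → ZMod 2) → G)
    (i j : Fin (2 ^ m + 1)) : Prop where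
  hyp : Engine.Hyp V P ε
  hm : 2 ≤ m
  SP : (S : Subgroup G) ≤ P
  fix0 : Fix0 ε (S : Subgroup G)
  ij : i ≠ j
  swap : ∃ b ∈ (S : Subgroup G), Acts ε b (Equiv.swap i j)
  one : ∀ u ∈ UU ε i j, ∀ a ∈ UU ε i j,
    (∀ k, k ≠ i → k ≠ j → ∀ y ∈ UU ε i k, cm u y = 1 ∨ cm u y = a) → ∃ x, u = ε x
  cut : NN ε i j ⊓ normalizer (V0 ε i j : Set G) ≤ normalizer (V : Set G)

namespace In

variable {i j : Fin (2 ^ m + 1)} (h : In S V P ε i j)
include h

theorem three : 3 ≤ 2 ^ m + 1 := three_le (by have := h.hm; omega)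

theorem evL [Finite G] : EvenSet (2 ^ m + 1) V (normalizer (V : Set G)) ε :=
  Norm.evenSet' h.hm S h.hyp.ev h.SP h.fix0

theorem SL : (S : Subgroup G) ≤ normalizer (V : Set G) := h.SP.trans h.hyp.ev.le_normalizer

/-- `T₁` -/
theorem T_two : IsPGroup 2 ((S : Subgroup G) ⊓ NN ε i j : Subgroup G) := S.isPGroup'.to_le inf_le_left

theorem o2_KK_le [Finite G] : o2 (KK ε) ≤ (S : Subgroup G) := by
  refine MinPar.le_of_le_normalizer S (o2_isPGroup _) fun s hs => DiCoreAbs.mem_norm_of fun x hx => ?_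
  obtain ⟨σ, hσ⟩ := h.hyp.ev.perm s (h.SP hs)
  refine Zero.o2_conj (fun x hx => ?_) (fun x hx => ?_) hx
  · exact Fr.KK_conj hσ hx
  · have h1 := Fr.KK_conj hσ.inv hx
    unfold cj at h1
    rwa [inv_inv] at h1

theorem XX_le_S [Finite G] : XX ε i j ≤ (S : Subgroup G) := (XX_le_o2 h.hyp).trans h.o2_KK_le

theorem XX_le_T [Finite G] : XX ε i j ≤ (S : Subgroup G) ⊓ NN ε i j :=
  le_inf h.XX_le_S ((XX_le_KK h.hyp).trans (KK_le_NN i j))

/-- the elements of `L ∩ N` normalise `V0` -/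
theorem L_norm [Finite G] : normalizer (V : Set G) ⊓ NN ε i j ≤ normalizer (V0 ε i j : Set G) := by
  rintro g ⟨hg, hgN⟩
  obtain ⟨σ, hσ⟩ := h.evL.perm g hg
  exact norm_V0 h.hyp hσ fun k hki hkj => pair_of h.hyp.ev h.hyp.n5 h.ij hσ hgN hki hkj

theorem T_norm [Finite G] : (S : Subgroup G) ⊓ NN ε i j ≤ normalizer (V0 ε i j : Set G) :=
  (inf_le_inf_right _ h.SL).trans h.L_norm

/-- a subgroup of `N` normalised by `g ∈ N`, between `XX` and `T₁`: `g ∈ N_G(V)` -/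
theorem mem_of_norm [Finite G] {A : Subgroup G} (hXA : XX ε i j ≤ A) (hA : A ≤ (S : Subgroup G) ⊓ NN ε i j)
    {g : G} (hg : g ∈ NN ε i j) (hgA : g ∈ normalizer (A : Set G)) : g ∈ normalizer (V : Set G) := by
  refine h.cut ⟨hg, lem2 h.hyp h.evL h.ij h.one h.cut hg fun x hx => h.T_norm (hA ?_)⟩
  have h1 := (mem_normalizer_iff.1 (inv_mem hgA) x).1 (hXA hx)
  rwa [inv_inv] at h1

/-- `N_N(T₁) ≤ N_G(V)` -/
theorem norm_T_le [Finite G] :
    NN ε i j ⊓ normalizer (((S : Subgroup G) ⊓ NN ε i j : Subgroup G) : Set G) ≤ normalizer (V : Set G) :=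
  fun _ hg => h.mem_of_norm h.XX_le_T le_rfl hg.1 hg.2

/-- the setting of `CosetAct` with `W = 1` -/
theorem cosetHyp' [Finite G] {k l : Fin (2 ^ m + 1)} (hkl : k ≠ l)
    (hb : ∃ b ∈ (S : Subgroup G), Acts ε b (Equiv.swap k l)) :
    CosetAct.Hyp V P (S : Subgroup G) ⊥ ε k l where
  even := h.hyp.ev
  VP := (h.hyp.V_le h.ij).trans ((h.hyp.W2_leQ h.ij).trans (h.hyp.le _ _ h.ij))
  two_le := h.hm
  le := h.SP
  isP := S.isPGroup'
  max T hT := by
    obtain ⟨T', hT'⟩ := hT.exists_le_sylow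
    calc Nat.card T ≤ Nat.card (T' : Subgroup G) := Subgroup.card_le_of_le hT'
      _ = Nat.card (S : Subgroup G) := Nat.card_congr (Sylow.equiv T' S).toEquiv
  fix0 := h.fix0
  ne := hkl
  swap := hb
  isPW := IsPGroup.of_bot
  leW := bot_le
  norm g _ := DiCoreAbs.mem_norm_of fun x hx => by
    rw [mem_bot.1 hx, mul_one, mul_inv_cancel]
    exact one_mem _

theorem cosetHyp [Finite G] : CosetAct.Hyp V P (S : Subgroup G) ⊥ ε i j := h.cosetHyp' h.ij h.swap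

/-- a 2-subgroup of `N_G(V) ∩ N` over `T₁` is `T₁` -/
theorem eq_T [Finite G] {R : Subgroup G} (hR : IsPGroup 2 R) (hRL : R ≤ normalizer (V : Set G))
    (hRN : R ≤ NN ε i j) (hTR : (S : Subgroup G) ⊓ NN ε i j ≤ R) : R = (S : Subgroup G) ⊓ NN ε i j := by
  have hf : Fact (Nat.Prime 2) := ⟨Nat.prime_two⟩
  have hSy : Syl (S : Subgroup G) (normalizer (V : Set G)) :=
    ⟨h.SL, S.isPGroup', fun _ _ hT hST => S.is_maximal' hT hST⟩
  obtain ⟨R', hR', hRR'⟩ := ZN.ChoiceSit.exists_syl hR hRL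
  obtain ⟨k, hk, hkR⟩ := ZN.ChoiceSit.syl_conj hR' hSy
  obtain ⟨σ, hσ⟩ := h.evL.perm k hk
  have h1 : R.map (MulAut.conj k).toMonoidHom ≤
      (S : Subgroup G) ⊓ centralizer ({rr ε (σ i) (σ j)} : Set G) := by
    refine le_inf ?_ ?_
    · rw [← hkR]
      exact Subgroup.map_mono hRR'
    · rintro _ ⟨x, hx, rfl⟩
      rw [mem_centralizer_singleton_iff, ← rr_conj hσ]
      have h2 := mem_NN.1 (hRN hx)
      change k * x * k⁻¹ * (k * rr ε i j * k⁻¹) = k * rr ε i j * k⁻¹ * (k * x * k⁻¹)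
      calc k * x * k⁻¹ * (k * rr ε i j * k⁻¹) = k * (x * rr ε i j) * k⁻¹ := by group
        _ = k * (rr ε i j * x) * k⁻¹ := by rw [h2]
        _ = _ := by group
  have h4 := card_rr h.hm h.hyp.ev h.SP h.fix0 (σ.injective.ne h.ij)
  have h5 := Subgroup.card_le_of_le h1
  rw [Subgroup.card_map_of_injective (MulAut.conj k).injective] at h5
  have h6 := h.cosetHyp.relIndex_S_le
  have h7 : Nat.card ↥((S : Subgroup G) ⊓ centralizer ({rr ε i j} : Set G)) *
      ((S : Subgroup G) ⊓ centralizer ({rr ε i j} : Set G)).relIndex (S : Subgroup G) =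
      Nat.card (S : Subgroup G) := CosetAct.Hyp.card_mul_relIndex' inf_le_left
  refine (Subgroup.eq_of_le_of_card_ge hTR ?_).symm
  change Nat.card R ≤ Nat.card ↥((S : Subgroup G) ⊓ centralizer ({rr ε i j} : Set G))
  set T := (S : Subgroup G) ⊓ centralizer ({rr ε i j} : Set G) with hT
  have h8 : Nat.card R * 2 ^ (m - 1) ≤ Nat.card T * 2 ^ (m - 1) := by
    calc Nat.card R * 2 ^ (m - 1)
        ≤ Nat.card ↥((S : Subgroup G) ⊓ centralizer ({rr ε (σ i) (σ j)} : Set G)) * 2 ^ (m - 1) :=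
          Nat.mul_le_mul_right _ h5
      _ ≤ Nat.card (S : Subgroup G) := h4
      _ = Nat.card T * T.relIndex (S : Subgroup G) := h7.symm
      _ ≤ Nat.card T * 2 ^ (m - 1) := Nat.mul_le_mul_left _ h6
  exact Nat.le_of_mul_le_mul_right h8 (by positivity)

/-- **`T₁` is a Sylow 2-subgroup of `C_G(r_ij)`** -/
theorem syl [Finite G] : Syl ((S : Subgroup G) ⊓ NN ε i j) (NN ε i j) := by
  have hf : Fact (Nat.Prime 2) := ⟨Nat.prime_two⟩
  refine ⟨inf_le_right, h.T_two, fun R hRN hR hTR => ?_⟩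
  set T := (S : Subgroup G) ⊓ NN ε i j with hT
  by_contra hne
  -- normalisers grow
  have h1 : R ⊓ normalizer (T : Set G) ≤ T := by
    have h2 : R ⊓ normalizer (T : Set G) = T := by
      refine h.eq_T (hR.to_le inf_le_left) (fun g hg => h.norm_T_le ⟨hRN hg.1, hg.2⟩)
        (inf_le_left.trans hRN) (le_inf hTR le_normalizer)
    exact h2.le
  exact hne (ZN.ChoiceNse.eq_of_normalizer_inf_le hR hTR (by rwa [inf_comm] at h1)).symm

theorem not_dvd [Finite G] : ¬ 2 ∣ ((S : Subgroup G) ⊓ NN ε i j).relIndex (NN ε i j) :=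
  ZN.ChoiceSit.syl_not_dvd h.syl

theorem o2_le_T' [Finite G] {R : Subgroup G} (hTR : (S : Subgroup G) ⊓ NN ε i j ≤ R) (hR : R ≤ NN ε i j) :
    o2 R ≤ (S : Subgroup G) ⊓ NN ε i j := by
  refine MinSimple.VModule.o2_le_of_sylow h.T_two fun h1 => h.not_dvd ?_
  rw [← relIndex_mul_relIndex _ R (NN ε i j) hTR hR]
  exact h1.mul_right _

/-- **`X₀ ≰ O₂(R)`** for `T₁ ≤ R ≤ C_G(r_ij)` not in `N_G(V)` -/
theorem not_le_o2 [Finite G] {R : Subgroup G} (hTR : (S : Subgroup G) ⊓ NN ε i j ≤ R) (hR : R ≤ NN ε i j)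
    (hRL : ¬ R ≤ normalizer (V : Set G)) : ¬ XX ε i j ≤ o2 R := fun hX =>
  hRL fun _ hg => h.mem_of_norm hX (h.o2_le_T' hTR hR) (hR hg) (le_normalizer_o2 R hg)

/-! ### `W_p`, `p` in the matching -/

theorem o2_le_T [Finite G] : o2 (NN ε i j) ≤ (S : Subgroup G) ⊓ NN ε i j := h.o2_le_T' inf_le_right le_rfl

theorem W2_le_T [Finite G] : W2 ε i j ≤ (S : Subgroup G) ⊓ NN ε i j := (h.hyp.W2_leQ h.ij).trans h.o2_le_T

/-- the pairs induced by `S` are the `S`-conjugates of `{i, j}` -/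
theorem exists_conj [Finite G] {k l : Fin (2 ^ m + 1)} (hkl : k ≠ l)
    (hb : ∃ b ∈ (S : Subgroup G), Acts ε b (Equiv.swap k l)) :
    ∃ s ∈ (S : Subgroup G), ∃ σ : Equiv.Perm (Fin (2 ^ m + 1)), Acts ε s σ ∧ σ i = k ∧ σ j = l := by
  have hc := h.cosetHyp' hkl hb
  obtain ⟨s, hs, σ, hσ, h1⟩ := S5.Syl.trans (by have := h.hm; omega) h.hyp.ev h.SP
    (MinSimple.Basic.not_dvd_relIndex S h.SP) h.fix0 h.cosetHyp.i_ne_zero hc.i_ne_zero
  refine ⟨s, hs, σ, hσ, h1, ?_⟩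
  by_contra hne
  obtain ⟨b, hbS, hbA⟩ := hb
  have hc' := h.cosetHyp' hkl.symm ⟨b, hbS, by rw [Equiv.swap_comm]; exact hbA⟩
  obtain ⟨a, haS, haA⟩ := h.swap
  have h2 : Acts ε (s * a * s⁻¹) (Equiv.swap k (σ j)) := by
    have h3 := hσ.conj haA
    rwa [← Equiv.swap_apply_apply, h1] at h3
  have hjk : σ j ≠ k := by rw [← h1]; exact σ.injective.ne h.ij.symm
  have h3 := hc'.fix_j (mul_mem (mul_mem hs haS) (inv_mem hs)) h2
    (Equiv.swap_apply_of_ne_of_ne hkl.symm (Ne.symm hne))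
  rw [Equiv.swap_apply_left] at h3
  exact hjk h3

theorem W2_le_S [Finite G] {k l : Fin (2 ^ m + 1)} (hkl : k ≠ l)
    (hb : ∃ b ∈ (S : Subgroup G), Acts ε b (Equiv.swap k l)) : W2 ε k l ≤ (S : Subgroup G) := by
  obtain ⟨s, hs, σ, hσ, h1, h2⟩ := h.exists_conj hkl hb
  intro x hx
  have h3 := W2_conj hσ.inv hx
  have e : ∀ m, σ⁻¹ (σ m) = m := fun m => σ.symm_apply_apply m
  rw [← h1, ← h2] at h3
  rw [e, e, inv_inv] at h3
  have h4 := mul_mem (mul_mem hs (h.W2_le_T h3).1) (inv_mem hs)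
  have h5 : s * (s⁻¹ * x * s) * s⁻¹ = x := by group
  rwa [h5] at h4

/-- `W_p ≤ T₁` for `p` in the matching -/
theorem W2_le_T' [Finite G] {k l : Fin (2 ^ m + 1)} (hkl : k ≠ l) (hki : k ≠ i) (hkj : k ≠ j) (hli : l ≠ i)
    (hlj : l ≠ j) (hb : ∃ b ∈ (S : Subgroup G), Acts ε b (Equiv.swap k l)) :
    W2 ε k l ≤ (S : Subgroup G) ⊓ NN ε i j := by
  refine le_inf (h.W2_le_S hkl hb) fun x hx => ?_
  have hx' := h.hyp.W2_leQ hkl hx
  rw [mem_NN]
  unfold rr
  rw [← mul_assoc, h.hyp.pair k l i hkl hki.symm hli.symm x hx', mul_assoc,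
    h.hyp.pair k l j hkl hkj.symm hlj.symm x hx', ← mul_assoc]

end In

end card

end Cfsg.Agent.Omega.NSix.HTwo.LemTwo
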