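import Cfsg.Agent.Omega.NSix.HTwo.Vec
import Cfsg.Agent.Omega.NSix.Engine.Inst
import Cfsg.Agent.Omega.NSix.HTwo.LemP
import Cfsg.Agent.Omega.NSix.HTwo.LemTwo
import Cfsg.Agent.Omega.NSix.OmegaOne

/-!
# #18323 (4) (helper480): the minimal parabolics of `C_G(r_ij)` which move `Ω₁(Z(T₁))`

`V = zl S P` even subsets, `T₁ = S ∩ C_G(r_ij)`, `R ≤ C_G(r_ij)` a minimal parabolic over `T₁`, `W = zl T₁ R`.

* `char2_of` : `R` has characteristic 2;
* `zc_le` : `Ω₁(Z(T₁)) ≤ V ∩ UU ε i j`; `zl_le` : `W ≤ UU ε i j`;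
* `comm` : if `UU ε a b` is trivial or an offender on `W` for all pairs `a, b` disjoint from `i, j`, then
  `[W, UU ε a b] = 1` for all of them;
* `not_cent` : `X ≤ T₁`, `X ≰ O₂(R)` implies `[W, X] ≠ 1`;
* `main` : all this for `R ≰ N_G(V)`, `R ≰ C_G(z_0)` in the situation `LemTwo.In`, with `NoOverM W R`.
-/

set_option autoImplicit false

namespace Cfsg.Agent.Omega.NSix.HTwo.StepFour

open Subgroup Cfsg
open Cfsg.Agent.ZN.ChoiceSit (Syl)
open Cfsg.Agent.ZN (zc zl o2)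
open Cfsg.Agent.MinSimple.MinParabolic (IsMinPar)
open Cfsg.Agent.MinSimple.VModule (mem_zc zc_le le_centralizer_zc le_normalizer_o2 o2_le o2_isPGroup le_o2)
open Cfsg.Agent.Omega.MinPar Cfsg.Agent.Omega.FFThm
open Cfsg.Agent.Omega.S5.Def Cfsg.Agent.Omega.S5.Syl
open Cfsg.Agent.Omega.NSix.Base Cfsg.Agent.Omega.NSix.Basic Cfsg.Agent.Omega.NSix.Engine

universe u

variable {G : Type u} [Group G] {n : ℕ} {V P T R : Subgroup G} {ε : (Fin n → ZMod 2) → G} {i j : Fin n}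

theorem le_norm_UU (i j : Fin n) : NN ε i j ≤ normalizer (UU ε i j : Set G) := by
  intro g hg
  rw [mem_normalizer_iff]
  intro x
  refine ⟨fun hx => UU_normal hg hx, fun hx => ?_⟩
  have h1 := UU_normal (inv_mem hg) hx
  have e : g⁻¹ * (g * x * g⁻¹) * g⁻¹⁻¹ = x := by group
  rwa [e] at h1

theorem zl_le (hRN : R ≤ NN ε i j) (hE : zc T ≤ UU ε i j) : zl T R ≤ UU ε i j :=
  MinSimple.VModule.zl_le hE (hRN.trans (le_norm_UU i j))

/-- a group between a Sylow 2-subgroup (or any `T ≥ O₂(N)`) and `N` of characteristic 2 has characteristic 2 -/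
theorem char2_of [Finite G] {N : Subgroup G} (hN : N ⊓ centralizer (o2 N : Set G) ≤ o2 N) (hRN : R ≤ N)
    (hO : o2 N ≤ R) : R ⊓ centralizer (o2 R : Set G) ≤ o2 R := by
  have h1 : o2 N ≤ o2 R := le_o2 hO (o2_isPGroup N) (hRN.trans (le_normalizer_o2 N))
  intro x hx
  exact h1 (hN ⟨hRN hx.1, centralizer_le h1 hx.2⟩)

section

variable [Finite G] {S : Sylow 2 G}

/-- `Ω₁(Z(T₁)) ≤ V ∩ UU ε i j` -/
theorem zc_le (hG : IsCharacteristicTwoType G) (hP : IsParS (S : Subgroup G) P)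
    (h : Hyp (zl (S : Subgroup G) P) P ε) (hij : i ≠ j)
    (hOS : o2 (NN ε i j) ≤ (S : Subgroup G)) :
    zc ((S : Subgroup G) ⊓ NN ε i j) ≤ zl (S : Subgroup G) P ⊓ UU ε i j := by
  intro x hx
  obtain ⟨hxT, hxc, hx2⟩ := mem_zc.1 hx
  have hO : OmegaOne.Hyp (zl (S : Subgroup G) P) P S ε := by
    refine ⟨h.ev, hP.le, MinSimple.VModule.zc_le_zl _ _, h.pair, h.le, ?_⟩
    obtain ⟨a, b, hab, g, hg, -, hgV⟩ := h.mov
    exact ⟨a, b, hab, g, hg, hgV⟩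
  have hV : zl (S : Subgroup G) P ≤ zc (o2 P) := hP.isLoc.zl_le S hG
  have hinf := hP.inf_centralizer S hG
  have hQT : o2 P ≤ (S : Subgroup G) ⊓ NN ε i j := by
    intro q hq
    have h1 : q ∈ (S : Subgroup G) ⊓ centralizer (zl (S : Subgroup G) P : Set G) := by rw [hinf]; exact hq
    exact ⟨h1.1, mem_NN.2 (mem_centralizer_iff.1 h1.2 _ (rr_mem h.ev i j)).symm⟩
  have hVT : zl (S : Subgroup G) P ≤ (S : Subgroup G) ⊓ NN ε i j := (hV.trans (MinSimple.VModule.zc_le _)).trans hQT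
  have hxQ : x ∈ o2 P := by
    rw [← hinf]
    exact ⟨hxT.1, mem_centralizer_iff.2 fun v hv => hxc v (hVT hv)⟩
  have hxV : x ∈ zl (S : Subgroup G) P := by
    rw [← OmegaOne.zc_o2_par hG h.n5 hP hO]
    exact mem_zc.2 ⟨hxQ, fun b hb => hxc b (hQT hb), hx2⟩
  refine ⟨hxV, ?_⟩
  obtain ⟨y, rfl⟩ := h.ev.surj x hxV
  refine (h.eU hij y).2 ?_
  obtain ⟨w, hw, hwa⟩ := h.exists_w hij
  have hwN : w ∈ o2 (NN ε i j) := h.W2_leQ hij hw
  have h1 := hxc w ⟨hOS hwN, o2_le _ hwN⟩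
  have h2 := hwa y
  rw [h1, mul_inv_cancel_right, h.ev.eq_iff] at h2
  rcases h2 with h2 | h2
  · have h3 := congrFun h2 i
    rwa [Function.comp_apply, Equiv.symm_swap, Equiv.swap_apply_left] at h3
  · exfalso
    obtain ⟨k, hk1, hk2, -, -⟩ := exists_fifth h.n5 i j i i
    have h3 := congrFun h2 k
    rw [Pi.add_apply, Function.comp_apply, Equiv.symm_swap, Equiv.swap_apply_of_ne_of_ne hk1 hk2, Pi.one_apply] at h3
    revert h3
    generalize y k = t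
    revert t
    decide

/-- **(4)**: `[W, UU ε a b] = 1` -/
theorem comm (h : Hyp V P ε) (hij : i ≠ j) (hFF : StmtM.{u}) (hT : Syl T R) (hR : IsMinPar T R) (hRN : R ≤ NN ε i j)
    (hc : R ⊓ centralizer (o2 R : Set G) ≤ o2 R) (hE : zc T ≤ UU ε i j)
    (hU : ∀ a b, D4 i j a b → UU ε a b ≤ T)
    (hoff : ∀ a b, D4 i j a b → UU ε a b ≤ centralizer (zl T R : Set G) ∨ OffM (zl T R) (UU ε a b))
    {a b : Fin n} (hD : D4 i j a b) : UU ε a b ≤ centralizer (zl T R : Set G) := by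
  by_contra hn
  set 𝒜 : Set (Subgroup G) := {A | ∃ a b, D4 i j a b ∧ A = UU ε a b} with h𝒜
  obtain ⟨ν, hν, E, h1, ⟨A, ⟨a', b', hD', rfl⟩, u, hu, hne⟩, h3⟩ := Vec.exists_vec hFF hT hR hc (𝒜 := 𝒜)
    (by rintro A ⟨a, b, hab, rfl⟩; exact hU a b hab)
    (by rintro A ⟨a, b, hab, rfl⟩; exact hoff a b hab)
    ⟨_, ⟨a, b, hD, rfl⟩, hn⟩
  have h4 := HTwo.Hyp.lemP_set h hij (zl_le hRN hE hν) (E := E) (fun a b hD => h1 _ ⟨a, b, hD, rfl⟩) ⟨a', b', hD', u, hu, hne⟩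
  have h5 : Vec.cms ν (UU ε a' b') = E := (h1 _ ⟨a', b', hD', rfl⟩).resolve_left fun h => hne (h u hu)
  have h6 : u * ν * u⁻¹ * ν⁻¹ ∈ E := by
    rw [← h5]
    exact ⟨u, hu, rfl⟩
  have h7 := h3 _ h6 fun g hg => by
    have h8 : g * rr ε i j = rr ε i j * g := mem_NN.1 (hRN hg)
    obtain ⟨k, hk⟩ := mem_zpowers_iff.1 (h4 _ h6)
    rw [← hk]
    exact (show Commute g (rr ε i j) from h8).zpow_right k
  apply hne
  have e : u * ν * u⁻¹ * ν⁻¹ = u * ν * (ν * u)⁻¹ := by group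
  rw [e] at h7
  exact mul_inv_eq_one.1 h7

/-- `X ≤ T`, `X ≰ O₂(R)` moves `W` -/
theorem not_cent {X : Subgroup G} (hT : Syl T R) (hR : IsMinPar T R) (hZ : ¬ R ≤ centralizer (zc T : Set G))
    (hX : X ≤ T) (hXo : ¬ X ≤ o2 R) : ¬ X ≤ centralizer (zl T R : Set G) :=
  fun h => hXo fun _ hx => OM.BlkGen.inf_cent hT hR hZ ⟨hX hx, h hx⟩

/-- `z_0 ∈ Ω₁(Z(T₁))` -/
theorem zz_mem_zc (hG : IsCharacteristicTwoType G) (hP : IsParS (S : Subgroup G) P)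
    (h : Hyp (zl (S : Subgroup G) P) P ε) {c : Fin n} (hz : ∀ s ∈ (S : Subgroup G), s * zz ε c = zz ε c * s) :
    zz ε c ∈ zc ((S : Subgroup G) ⊓ NN ε i j) := by
  have hV : zl (S : Subgroup G) P ≤ zc (o2 P) := hP.isLoc.zl_le S hG
  have hVS : zl (S : Subgroup G) P ≤ (S : Subgroup G) := by
    have h1 := hP.inf_centralizer S hG
    exact (hV.trans (MinSimple.VModule.zc_le _)).trans (h1.ge.trans inf_le_left)
  refine mem_zc.2 ⟨⟨hVS (zz_mem h.ev c), ?_⟩, fun b hb => hz b hb.1, by rw [pow_two]; exact zz_sq h.ev c⟩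
  exact mem_NN.2 (h.ev.comm_mem (zz_mem h.ev c) (rr_mem h.ev i j))

end

section

variable [Finite G] {S : Sylow 2 G} {m : ℕ} {ε : (Fin (2 ^ m + 1) → ZMod 2) → G} {i j : Fin (2 ^ m + 1)}

/-- **(4)** for a minimal parabolic `R` of `C_G(r_ij)` over `T₁ = S ∩ C_G(r_ij)` -/
theorem main (hFF : StmtM.{u}) (hG : IsCharacteristicTwoType G) (hP : IsParS (S : Subgroup G) P)
    (hI : LemTwo.In S (zl (S : Subgroup G) P) P ε i j) (hR : IsMinPar ((S : Subgroup G) ⊓ NN ε i j) R)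
    (hRN : R ≤ NN ε i j) (hRV : ¬ R ≤ normalizer (zl (S : Subgroup G) P : Set G))
    (hRz : ¬ R ≤ centralizer ({zz ε 0} : Set G))
    (hoff : ∀ W ≤ UU ε i j, ∀ a b, D4 i j a b → UU ε a b ≤ centralizer (W : Set G) ∨ OffM W (UU ε a b)) :
    zl ((S : Subgroup G) ⊓ NN ε i j) R ≤ UU ε i j ∧
      (∀ a b, D4 i j a b → UU ε a b ≤ centralizer (zl ((S : Subgroup G) ⊓ NN ε i j) R : Set G)) ∧
      ¬ LemTwo.XX ε i j ≤ centralizer (zl ((S : Subgroup G) ⊓ NN ε i j) R : Set G) ∧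
      NoOverM (zl ((S : Subgroup G) ⊓ NN ε i j) R) R ∧ Syl ((S : Subgroup G) ⊓ NN ε i j) R := by
  set T := (S : Subgroup G) ⊓ NN ε i j with hTdef
  have hTR : T ≤ R := hR.le
  have hT : Syl T R := by
    obtain ⟨h1, h2, h3⟩ := hI.syl
    exact ⟨hTR, h2, fun Q hQR hQ hTQ => h3 Q (hQR.trans hRN) hQ hTQ⟩
  have hcN : NN ε i j ⊓ centralizer (o2 (NN ε i j) : Set G) ≤ o2 (NN ε i j) :=
    MinSimple.Basic.char2_centralizer hG (by rw [pow_two]; exact rr_sq hI.hyp.ev i j)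
      (rr_ne_one hI.hyp.ev hI.three hI.ij)
  have hc : R ⊓ centralizer (o2 R : Set G) ≤ o2 R := char2_of hcN hRN (hI.o2_le_T.trans hTR)
  have hE : zc T ≤ UU ε i j := (zc_le hG hP hI.hyp hI.ij (hI.o2_le_T.trans inf_le_left)).trans inf_le_right
  have hZ : ¬ R ≤ centralizer (zc T : Set G) := by
    intro h1
    apply hRz
    refine h1.trans (centralizer_le ?_)
    rw [Set.singleton_subset_iff]
    refine zz_mem_zc hG hP hI.hyp fun s hs => ?_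
    obtain ⟨σ, hσ⟩ := hI.hyp.ev.perm s (hP.le hs)
    have h2 := zz_conj hσ 0
    rw [hI.fix0 s hs σ hσ] at h2
    exact mul_inv_eq_iff_eq_mul.1 h2
  have hU : ∀ a b, D4 i j a b → UU ε a b ≤ T := fun a b hD =>
    le_inf ((LemTwo.UU_le_o2 hI.hyp hD.kl).trans hI.o2_KK_le) ((hI.hyp.UK hD.kl).trans (LemTwo.KK_le_NN i j))
  refine ⟨zl_le hRN hE, fun a b hD => ?_, ?_, Vec.noOverM hFF hT hR hc, hT⟩
  · exact comm hI.hyp hI.ij hFF hT hR hRN hc hE hU (fun a b hD => hoff _ (zl_le hRN hE) a b hD) hD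
  · exact not_cent hT hR hZ hI.XX_le_T (hI.not_le_o2 hTR hRN hRV)

end

end Cfsg.Agent.Omega.NSix.HTwo.StepFour
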