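import Cfsg.Agent.Omega.NSix.HTwo.Main
import Cfsg.Agent.Omega.NSix.HTwo.LemTwoIn
import Cfsg.Agent.Omega.NSix.HTwo.Off
import Cfsg.Agent.Omega.NSix.HTwo.Six
import Cfsg.Agent.Omega.NSix.HTwo.StepFour
import Cfsg.Agent.Omega.NSix.OmegaOne
import Cfsg.Agent.Omega.NSix.TLEnd

/-!
# #18323 (helper480): (H2) of N6, the assembly of the steps (1)-(7)  (helper546)

`T₁ = C_S(r_ij)`, `S` induces `(i j)`, `N = C_G(r_ij)`, `V = zl S P`.

* `in_of` : the input of 537's `LemTwo` from `Main.Pos` and 395's `TLEnd` (#16633 (1), (4));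
* `two_pairs` : two disjoint pairs off `{i, j}` induced by `S`;
* `off_of` : (2), 940's `Off` with `T₁`; `lab_of` : (5)-(7), 480's `Star`; (4) is 778's `StepFour.main`;
* `steps_of : MLK → StmtM → Main.Steps K`; `symH2 : MLK → StmtM → SN.Two K → SymH2 K`; `symBig`.
-/

set_option autoImplicit false
set_option linter.unusedSectionVars false

namespace Cfsg.Agent.Omega.NSix.HTwo.StepC

open Subgroup Cfsg Cfsg.Agent.Omega.MinPar
open Cfsg.Agent.ZN (o2 zc zl)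
open Cfsg.Agent.ZN.ChoiceSit (Syl)
open Cfsg.Agent.MinSimple.VModule (o2_le o2_isPGroup le_normalizer_o2 le_o2 mem_zc)
open Cfsg.Agent.Omega.S5.Def Cfsg.Agent.Omega.S5.Syl
open Cfsg.Agent.Omega.NSix.Base Cfsg.Agent.Omega.NSix.Basic Cfsg.Agent.Omega.NSix.Engine
open Cfsg.Agent.Omega.NSix.Engine.Fr (Cen)
open Cfsg.Agent.Omega.NSix.CosetAct (V0 mem_V0)
open Cfsg.Agent.Omega.NSix.HTwo.LemTwo (XX In)
open Cfsg.Agent.Omega.NSix.HTwo.Main (Pos Steps)
open Cfsg.Agent.Omega.Frame (Ctx Cls)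
open Cfsg.Agent.Omega.TTn.Di (cm cj cm_one_iff)
open Cfsg.Agent.MinSimple.MinParabolic (IsMinPar)

universe u

variable {G : Type u} [Group G] [Finite G] {S : Sylow 2 G} {P : Subgroup G} {m : ℕ}
  {ε : (Fin (2 ^ m + 1) → ZMod 2) → G} {i j : Fin (2 ^ m + 1)}

/-- the situation of 395's `TLEnd` -/
theorem sy_of (h : Pos S P ε) : TLEnd.Sy S (zl (S : Subgroup G) P) P ε m := ⟨h.hyp, h.par.le, h.m3, rfl⟩

theorem nc_of (h : Pos S P ε) : TLEnd.Nc ε := by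
  have h9 : 9 ≤ 2 ^ m + 1 := (sy_of h).nine
  have hD : D4 (⟨0, by omega⟩ : Fin (2 ^ m + 1)) ⟨1, by omega⟩ ⟨2, by omega⟩ ⟨3, by omega⟩ := by
    refine ⟨?_, ?_, ?_, ?_, ?_, ?_⟩ <;>
      · intro e
        have := congrArg Fin.val e
        simp at this
  have h1 := h.nc _ _ _ _ hD
  push Not at h1
  obtain ⟨u, hu, y, hy, hne⟩ := h1
  exact ⟨_, _, _, _, hD, u, hu, y, hy, hne⟩

/-- the input of `LemTwo` -/
theorem in_of (h : Pos S P ε) (hij : i ≠ j) (hsw : ∃ a ∈ (S : Subgroup G), Acts ε a (Equiv.swap i j)) :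
    In S (zl (S : Subgroup G) P) P ε i j :=
  LemTwo.In.of h.hyp (by have := h.m3; omega) h.par.le h.fix0 hij hsw fun _ hg hx =>
    (sy_of h).norm_le (nc_of h) hij hg hx

/-! ### Two more pairs -/

section pairs

variable {V : Subgroup G} (h : In S V P ε i j)
include h

theorem mate {k l : Fin (2 ^ m + 1)} (hki : k ≠ i) (hkj : k ≠ j)
    (hb : ∃ b ∈ (S : Subgroup G), Acts ε b (Equiv.swap k l)) : l ≠ i ∧ l ≠ j := by
  obtain ⟨b, hbS, hb⟩ := hb
  constructor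
  · rintro rfl
    -- `b` fixes `j`, so `i`
    have hc := h.cosetHyp' h.ij.symm (by obtain ⟨a, ha, h1⟩ := h.swap; exact ⟨a, ha, by rwa [Equiv.swap_comm]⟩)
    have h2 := hc.fix_j hbS hb (Equiv.swap_apply_of_ne_of_ne hkj.symm h.ij.symm)
    rw [Equiv.swap_apply_right] at h2
    exact hki h2
  · rintro rfl
    have h2 := h.cosetHyp.fix_j hbS hb (Equiv.swap_apply_of_ne_of_ne hki.symm h.ij)
    rw [Equiv.swap_apply_right] at h2
    exact hkj h2

/-- the pair of a label -/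
theorem exists_mate {k : Fin (2 ^ m + 1)} (hk0 : k ≠ 0) :
    ∃ l, k ≠ l ∧ l ≠ 0 ∧ ∃ b ∈ (S : Subgroup G), Acts ε b (Equiv.swap k l) := by
  obtain ⟨s, hs, σ, hσ, h1⟩ := S5.Syl.trans (by have := h.hm; omega) h.hyp.ev h.SP
    (MinSimple.Basic.not_dvd_relIndex S h.SP) h.fix0 h.cosetHyp.i_ne_zero hk0
  obtain ⟨a, ha, hsw⟩ := h.swap
  have hj0 : j ≠ 0 := by
    have hc := h.cosetHyp' h.ij.symm ⟨a, ha, by rwa [Equiv.swap_comm]⟩
    exact hc.i_ne_zero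
  refine ⟨σ j, ?_, ?_, s * a * s⁻¹, mul_mem (mul_mem hs ha) (inv_mem hs), ?_⟩
  · rw [← h1]; exact σ.injective.ne h.ij
  · rw [← h.fix0 s hs σ hσ]
    exact σ.injective.ne hj0
  · have h3 := hσ.conj hsw
    rwa [← Equiv.swap_apply_apply, h1] at h3

/-- **two disjoint pairs off `{i, j}` induced by `S`** -/
theorem two_pairs (hm : 3 ≤ m) : ∃ k l k' l' : Fin (2 ^ m + 1), D4 i j k l ∧ D4 i j k' l' ∧ D4 k l k' l' ∧
    (∃ b ∈ (S : Subgroup G), Acts ε b (Equiv.swap k l)) ∧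
    ∃ b ∈ (S : Subgroup G), Acts ε b (Equiv.swap k' l') := by
  classical
  have h9 : 9 ≤ 2 ^ m + 1 := by
    have h1 : 2 ^ 3 ≤ 2 ^ m := Nat.pow_le_pow_right (by norm_num) hm
    omega
  have hex : ∀ s : Finset (Fin (2 ^ m + 1)), s.card ≤ 5 → ∃ k, k ∉ s := by
    intro s hs
    by_contra hcon
    push Not at hcon
    have h1 : (Finset.univ : Finset (Fin (2 ^ m + 1))) ⊆ s := fun k _ => hcon k
    have h2 := Finset.card_le_card h1
    rw [Finset.card_univ, Fintype.card_fin] at h2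
    omega
  obtain ⟨k, hk⟩ := hex {0, i, j} (Finset.card_le_three.trans (by norm_num))
  simp only [Finset.mem_insert, Finset.mem_singleton, not_or] at hk
  obtain ⟨hk0, hki, hkj⟩ := hk
  obtain ⟨l, hkl, hl0, hb⟩ := exists_mate h hk0
  obtain ⟨hli, hlj⟩ := mate h hki hkj hb
  obtain ⟨k', hk'⟩ := hex {0, i, j, k, l} Finset.card_le_five
  simp only [Finset.mem_insert, Finset.mem_singleton, not_or] at hk'
  obtain ⟨hk0', hki', hkj', hkk, hkl0⟩ := hk'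
  obtain ⟨l', hkl', hl0', hb'⟩ := exists_mate h hk0'
  obtain ⟨hli', hlj'⟩ := mate h hki' hkj' hb'
  have hlk : l' ≠ k ∧ l' ≠ l := by
    obtain ⟨b', hbS', hb2⟩ := hb'
    constructor
    · rintro rfl
      have hc := h.cosetHyp' hkl.symm (by obtain ⟨a, ha, h1⟩ := hb; exact ⟨a, ha, by rwa [Equiv.swap_comm]⟩)
      have h2 := hc.fix_j hbS' hb2 (Equiv.swap_apply_of_ne_of_ne (Ne.symm hkl0) hkl.symm)
      rw [Equiv.swap_apply_right] at h2
      exact hkk h2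
    · rintro rfl
      have h2 := (h.cosetHyp' hkl hb).fix_j hbS' hb2 (Equiv.swap_apply_of_ne_of_ne (Ne.symm hkk) hkl)
      rw [Equiv.swap_apply_right] at h2
      exact hkl0 h2
  exact ⟨k, l, k', l', ⟨h.ij, Ne.symm hki, hli.symm, Ne.symm hkj, hlj.symm, hkl⟩,
    ⟨h.ij, Ne.symm hki', hli'.symm, Ne.symm hkj', hlj'.symm, hkl'⟩,
    ⟨hkl, Ne.symm hkk, hlk.1.symm, Ne.symm hkl0, hlk.2.symm, hkl'⟩, hb, hb'⟩

end pairs

/-! ### (2) and (5)-(7) -/

theorem NN_ne_top (hG : Ctx G) (h : Pos S P ε) (hij : i ≠ j) : NN ε i j ≠ ⊤ := by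
  intro h0
  have hn : 3 ≤ 2 ^ m + 1 := by have := h.hyp.n5; omega
  have hr := rr_ne_one h.hyp.ev hn hij
  have hs := hG.simple
  have hc : rr ε i j ∈ center G := by
    rw [mem_center_iff]
    intro g
    exact mem_NN.1 (h0 ▸ mem_top g : g ∈ NN ε i j)
  rcases hs.eq_bot_or_eq_top_of_normal (center G) inferInstance with h1 | h1
  · rw [h1, mem_bot] at hc
    exact hr hc
  · exact hG.nonComm ⟨⟨fun a b => mem_center_iff.1 (h1 ▸ mem_top b : b ∈ center G) a⟩⟩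

/-- **(2)**: `U_ab` centralises `W` or is an offender on `W` -/
theorem off_of (hML : ML.Final.MLK.{u, u}) (hG : Ctx G) (h : Pos S P ε)
    (hI : In S (zl (S : Subgroup G) P) P ε i j) {a b : Fin (2 ^ m + 1)} (hD : D4 i j a b) {W : Subgroup G}
    (hW : W ≤ UU ε i j) : UU ε a b ≤ centralizer (W : Set G) ∨ FFThm.OffM W (UU ε a b) := by
  obtain ⟨T, hTi, hTk, hT2, hTo⟩ := Off.exists_syl hI.hm h.hyp hI.ij (inf_le_left.trans hI.SP) inf_le_right
    hI.T_two hI.not_dvd hD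
  exact Off.offM h.hyp hML (hG.kproper _ (NN_ne_top hG h hI.ij)) hD hTi hTk hT2 hTo hW

/-- **(5)-(7)** -/
theorem lab_of (h : Pos S P ε) (hI : In S (zl (S : Subgroup G) P) P ε i j) {W R : Subgroup G}
    (hTR : (S : Subgroup G) ⊓ NN ε i j ≤ R) (hNO : FFThm.NoOverM W R) (hW : W ≤ UU ε i j)
    (hU : ∀ a b, D4 i j a b → UU ε a b ≤ centralizer (W : Set G)) : ∀ y ∈ W, ∃ x, y = ε x := by
  obtain ⟨w, F⟩ := h.hyp.exists_fr
  obtain ⟨k, l, k', l', hp, hq, hpq, hb, hb'⟩ := two_pairs hI h.m3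
  refine Star.main F h.hyp.thC (fun {_ _ _ _} hD y hy hc => Hyp.mem_Q h.hyp hD hy hc) hp hq hpq (R := R)
    (fun y hy => ⟨hW hy, fun a b hD x hx => ?_⟩) hNO
    (fun c hc _ => hTR (hI.W2_le_T' hp.kl hp.ik.symm hp.jk.symm hp.il.symm hp.jl.symm hb hc))
    (fun c hc _ => hTR (hI.W2_le_T' hq.kl hq.ik.symm hq.jk.symm hq.il.symm hq.jl.symm hb' hc))
  exact mem_centralizer_iff.1 (hU a b hD hx) y hy

/-! ### The assembly -/

/-- **(1)-(7) of #18323** from (ML) and the FF theorem -/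
theorem steps_of {K : Cls.{u}} (hML : ML.Final.MLK.{u, u}) (hFF : FFThm.StmtM.{u}) : Steps K := by
  intro G _ _ hG hK S P m ε h i j hij hsw
  have hI := in_of h hij hsw
  refine ⟨hI.not_dvd, hI.norm_T_le, fun R hR hRN => ?_⟩
  by_contra hcon
  rw [not_or] at hcon
  obtain ⟨hRL, hRz⟩ := hcon
  obtain ⟨hW, hU, hX, hNO, -⟩ := StepFour.main hFF h.c2 h.par hI hR hRN hRL hRz
    fun W hW a b hD => off_of hML hG h hI hD hW
  refine hX fun x hx => mem_centralizer_iff.2 fun y hy => ?_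
  obtain ⟨v, rfl⟩ := lab_of h hI hR.le hNO hW hU y hy
  exact (mem_KK'.1 (LemTwo.XX_le_KK h.hyp hx) v).symm

/-- **(H2) of N6** from (ML), the FF theorem and THEOREM SN -/
theorem symH2 {K : Cls.{u}} (hML : ML.Final.MLK.{u, u}) (hFF : FFThm.StmtM.{u}) (h2 : NO3S.SN.Two K) :
    S5.SymBig.SymH2 K :=
  Main.symH2_of (steps_of hML hFF) h2

/-- **the leaf II.c** -/
theorem symBig {K : Cls.{u}} (hML : ML.Final.MLK.{u, u}) (hFF : FFThm.StmtM.{u}) (h2 : NO3S.SN.Two K) :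
    S5.Main.SymBig K :=
  Main.symBig (steps_of hML hFF) h2

end Cfsg.Agent.Omega.NSix.HTwo.StepC
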