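import Cfsg.Agent.Omega.NSix.JNot

/-!
# OMEGA N6, #18323 (helper480) (8)  (helper537)

`V = V_P` even subsets of `2^m + 1` points, `T₁ = C_S(r_ij)` a Sylow 2-subgroup of `C_G(r_ij)` with its normaliser
(in `C_G(r_ij)`) in `N_G(V)`; every minimal parabolic over `T₁` in `C_G(r_ij)` lies in `N_G(V)` or in `C_G(z_0)`;
`⟨P, C_G(Z)⟩` is 2-local (THEOREM SN); (N).  Then `C_G(r_kl) ≤ N_G(V)` for all pairs and `⟨P, C_G(Z)⟩ ≤ N_G(V)`.
-/

set_option autoImplicit false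

namespace Cfsg.Agent.Omega.NSix.HTwo.End

open Subgroup Cfsg Cfsg.Agent.Omega.MinPar
open Cfsg.Agent.ZN (o2 zc zl)
open Cfsg.Agent.Omega.FrameNOFF (CZ)
open Cfsg.Agent.Omega.S5.Def Cfsg.Agent.Omega.S5.Syl
open Cfsg.Agent.Omega.NSix.Base Cfsg.Agent.Omega.NSix.Basic
open Cfsg.Agent.Omega.NSix.Zero (WP mem_WP)
open Cfsg.Agent.Omega.NSix.JNot
open Cfsg.Agent.MinSimple.MinParabolic (IsMinPar)

universe u

variable {G : Type u} [Group G] [Finite G] {S : Sylow 2 G} {P : Subgroup G} {m : ℕ}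
  {ε : (Fin (2 ^ m + 1) → ZMod 2) → G}

omit [Finite G] in
/-- three letters are not `0` modulo complements -/
theorem three_ne {n : ℕ} {V L : Subgroup G} {ε : (Fin n → ZMod 2) → G} (ev : EvenSet n V L ε)
    (h5 : 5 ≤ n) (i j k : Fin n) : ε (Pi.single i 1 + Pi.single j 1 + Pi.single k 1) ≠ 1 := by
  classical
  intro h1
  obtain ⟨l, hl⟩ : ∃ l : Fin n, l ∉ ({i, j, k} : Finset (Fin n)) := by
    by_contra hcon
    push Not at hcon
    have h8 : (Finset.univ : Finset (Fin n)) ⊆ {i, j, k} := fun l _ => hcon l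
    have h9 := Finset.card_le_card h8
    have h10 : ({i, j, k} : Finset (Fin n)).card ≤ 3 := Finset.card_le_three
    rw [Finset.card_univ, Fintype.card_fin] at h9
    omega
  simp only [Finset.mem_insert, Finset.mem_singleton, not_or] at hl
  have h0 : (Pi.single i 1 + Pi.single j 1 + Pi.single k 1 : Fin n → ZMod 2) l = 0 := by
    simp only [Pi.add_apply]
    rw [Pi.single_eq_of_ne hl.1, Pi.single_eq_of_ne hl.2.1, Pi.single_eq_of_ne hl.2.2]
    rfl
  rcases (ev.ker _).1 h1 with h2 | h2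
  · have h3 := congrArg (fun x : Fin n → ZMod 2 => ∑ l, x l) h2
    simp only [Pi.add_apply, Finset.sum_add_distrib, Finset.sum_pi_single', Finset.mem_univ,
      if_true, Pi.zero_apply, Finset.sum_const_zero] at h3
    revert h3; decide
  · have h3 := congrFun h2 l
    rw [h0, Pi.one_apply] at h3
    exact zero_ne_one h3

/-- `S` does not centralise `r_ij`. -/
theorem not_S_le (hm : 2 ≤ m) (hP : IsParS (S : Subgroup G) P)
    (ev : EvenSet (2 ^ m + 1) (zl (S : Subgroup G) P) P ε) (h0 : Fix0 ε (S : Subgroup G))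
    {i j : Fin (2 ^ m + 1)} (hij : i ≠ j) : ¬ (S : Subgroup G) ≤ NN ε i j := by
  intro hS
  have h5 : 5 ≤ 2 ^ m + 1 := five_le hm
  have h1 := fixed (by omega) ev hP.le (MinSimple.Basic.not_dvd_relIndex S hP.le) h0 (rr_mem ev i j)
    (fun s hs => mem_NN.1 (hS hs))
  rcases h1 with h1 | h1
  · exact rr_ne_one ev (by omega) hij h1
  · -- `{i, j} ≠ {0}` modulo complements
    have h2 : ε (Pi.single i 1 + Pi.single j 1 + Pi.single 0 1) = 1 := by
      rw [ev.add, ev.add]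
      change rr ε i j * ε (Pi.single 0 1) = 1
      rw [h1]; exact ev.sq _
    exact three_ne ev h5 _ _ _ h2

/-- `z_0` is not conjugate to `r_ij`. -/
theorem not_conj (hG : IsCharacteristicTwoType G) (hm : 2 ≤ m) (hP : IsParS (S : Subgroup G) P)
    (ev : EvenSet (2 ^ m + 1) (zl (S : Subgroup G) P) P ε) (h0 : Fix0 ε (S : Subgroup G))
    {i j : Fin (2 ^ m + 1)} (hij : i ≠ j)
    (hT : ¬ 2 ∣ ((S : Subgroup G) ⊓ NN ε i j).relIndex (NN ε i j)) (g : G) :
    zz ε 0 ≠ g * rr ε i j * g⁻¹ := by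
  intro he
  have hf : Fact (Nat.Prime 2) := ⟨Nat.prime_two⟩
  have hz : ∀ s ∈ (S : Subgroup G), s * zz ε 0 = zz ε 0 * s := by
    have h1 : zz ε 0 ∈ zc (S : Subgroup G) := (zc_iff hG (by omega) hP ev h0).2 (Or.inr rfl)
    exact (MinSimple.VModule.mem_zc.1 h1).2.1
  apply not_S_le hm hP ev h0 hij
  set T := (S : Subgroup G) ⊓ NN ε i j with hTdef
  have h1 : (S : Subgroup G).map (MulAut.conj g⁻¹).toMonoidHom ≤ NN ε i j := by
    rintro _ ⟨s, hs, rfl⟩
    rw [mem_NN]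
    change g⁻¹ * s * g⁻¹⁻¹ * rr ε i j = rr ε i j * (g⁻¹ * s * g⁻¹⁻¹)
    have h2 := hz s hs
    rw [he] at h2
    calc g⁻¹ * s * g⁻¹⁻¹ * rr ε i j = g⁻¹ * (s * (g * rr ε i j * g⁻¹)) * g := by group
      _ = rr ε i j * (g⁻¹ * s * g⁻¹⁻¹) := by rw [h2]; group
  have h2 : Nat.card (S : Subgroup G) ∣ Nat.card (NN ε i j) := by
    have h0 : Nat.card ((S : Subgroup G).map (MulAut.conj g⁻¹).toMonoidHom) =
        Nat.card (S : Subgroup G) := Subgroup.card_map_of_injective (MulAut.conj g⁻¹).injective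
    rw [← h0]
    exact card_dvd_of_le h1
  have h3 : Nat.card T * T.relIndex (NN ε i j) = Nat.card (NN ε i j) := by
    have h4 := relIndex_mul_relIndex ⊥ T (NN ε i j) bot_le inf_le_right
    simp only [relIndex_bot_left] at h4
    exact h4
  have h4 : Nat.card (S : Subgroup G) ∣ Nat.card T := by
    rw [← h3] at h2
    refine Nat.Coprime.dvd_of_dvd_mul_right ?_ h2
    obtain ⟨k, hk⟩ := IsPGroup.iff_card.1 S.isPGroup'
    rw [hk]
    exact Nat.Coprime.pow_left k ((Nat.Prime.coprime_iff_not_dvd Nat.prime_two).2 hT)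
  have h5 : T = (S : Subgroup G) := eq_of_le_of_card_ge inf_le_left
    (Nat.le_of_dvd Nat.card_pos h4)
  rw [← h5]
  exact inf_le_right

/-- **#18323 (8)**. -/
theorem nn_le_normalizer (hG : IsCharacteristicTwoType G) (hm : 2 ≤ m) (hP : IsParS (S : Subgroup G) P)
    (ev : EvenSet (2 ^ m + 1) (zl (S : Subgroup G) P) P ε) (h0 : Fix0 ε (S : Subgroup G))
    (hloc : ¬ NonLoc P (CZ (S : Subgroup G))) {i j : Fin (2 ^ m + 1)} (hij : i ≠ j)
    (hT : ¬ 2 ∣ ((S : Subgroup G) ⊓ NN ε i j).relIndex (NN ε i j))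
    (hNT : NN ε i j ⊓ normalizer (((S : Subgroup G) ⊓ NN ε i j : Subgroup G) : Set G) ≤
      P ⊔ CZ (S : Subgroup G))
    (hR : ∀ R : Subgroup G, IsMinPar ((S : Subgroup G) ⊓ NN ε i j) R → R ≤ NN ε i j →
      R ≤ P ⊔ CZ (S : Subgroup G))
    (hN : ∃ k l, k ≠ l ∧ ∃ g ∈ WP ε k l, ¬ g ∈ centralizer (zl (S : Subgroup G) P : Set G)) :
    P ⊔ CZ (S : Subgroup G) ≤ normalizer (zl (S : Subgroup G) P : Set G) ∧
      ∀ k l, k ≠ l → NN ε k l ≤ normalizer (zl (S : Subgroup G) P : Set G) := by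
  classical
  have hX : IsLoc (S : Subgroup G) (P ⊔ CZ (S : Subgroup G)) := (not_nonLoc_iff S hP.le).1 hloc
  set X := P ⊔ CZ (S : Subgroup G) with hXdef
  have hPX : P ≤ X := le_sup_left
  have hNX : NN ε i j ≤ X := Cfsg.Agent.MinSimple.MinParabolic.le_of_forall inf_le_right hNT hR
  obtain ⟨k, l, hkl, hN'⟩ := hN
  have hfus : ∀ g ∈ X, zz ε 0 ≠ g * rr ε k l * g⁻¹ := by
    intro g _ he
    obtain ⟨σ, h1, h2, -⟩ := exists_perm hij hkl
    obtain ⟨p, hp, hpσ⟩ := ev.full σ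
    refine not_conj hG hm hP ev h0 hij hT (g * p) ?_
    rw [he, ← h1, ← h2, ← rr_conj hpσ]
    group
  have hXV : X ≤ normalizer (zl (S : Subgroup G) P : Set G) :=
    nn_le hG hm hP ev h0 hX hPX hkl (NN_le_of_one ev hPX hij hNX hkl) hfus hN'
  exact ⟨hXV, fun a b hab => (NN_le_of_one ev hPX hij hNX hab).trans hXV⟩

/-- `N_G(V)`, `C_G(z_0) ≤ ⟨P, C_G(Z)⟩`. -/
theorem le_sup (hG : IsCharacteristicTwoType G) (hm : 2 ≤ m) (hP : IsParS (S : Subgroup G) P)
    (ev : EvenSet (2 ^ m + 1) (zl (S : Subgroup G) P) P ε) (h0 : Fix0 ε (S : Subgroup G)) :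
    normalizer (zl (S : Subgroup G) P : Set G) ≤ P ⊔ CZ (S : Subgroup G) ∧
      centralizer ({zz ε 0} : Set G) ≤ P ⊔ CZ (S : Subgroup G) := by
  have hCX : centralizer ({zz ε 0} : Set G) ≤ P ⊔ CZ (S : Subgroup G) := by
    refine le_trans ?_ le_sup_right
    intro x hx
    rw [mem_centralizer_singleton_iff] at hx
    rw [CZ, mem_centralizer_iff]
    intro y hy
    rcases (zc_iff hG (by omega) hP ev h0).1 hy with rfl | rfl
    · rw [one_mul, mul_one]
    · exact hx.symm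
  exact ⟨normalizer_le hm hP ev h0 le_sup_left hCX, hCX⟩

end Cfsg.Agent.Omega.NSix.HTwo.End
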