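import Cfsg.Agent.Omega.S5.SymBig
import Cfsg.Agent.Omega.NSix.HTwo.End
import Cfsg.Agent.Omega.NSix.Engine.Inst
import Cfsg.Agent.Omega.NO3S.SN.Plug

/-!
# OMEGA N6: (H2) (`S5.SymBig.SymH2`), the top of #18323 (helper480)  (helper840)

`Pos S P ε` : `P ∈ P*(G,S)`, `V = zl S P` the even subsets of `2^m + 1 ≥ 9` points, `Engine.Hyp V P ε`, and no two
`U_ij`, `U_kl` of disjoint pairs commute.

* `Pos.of` : a counterexample to (H2) in the position of `S5.SymBig.Pr` is a `Pos`;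
* `Pos.false` : `Pos`, `⟨P, C_G(Z)⟩` 2-local (THEOREM SN), `T₁ = C_S(r_ij)` Sylow in `C_G(r_ij)` with its normaliser in
  `N_G(V)`, every minimal parabolic over `T₁` in `N_G(V)` or in `C_G(z_0)`: contradiction;
* `Steps K` : these facts on `C_G(r_ij)`; `symH2_of : Steps K → SN.Two K → SymH2 K`;
  `symBig : Steps K → SN.Two K → S5.Main.SymBig K`.
-/

set_option autoImplicit false

namespace Cfsg.Agent.Omega.NSix.HTwo.Main

open Subgroup Cfsg Cfsg.Agent.Omega.MinPar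
open Cfsg.Agent.ZN (o2 zc zl)
open Cfsg.Agent.Omega.Frame (Ctx Cls)
open Cfsg.Agent.Omega.FrameNOFF (CZ)
open Cfsg.Agent.Omega.S5.Def Cfsg.Agent.Omega.S5.Syl
open Cfsg.Agent.Omega.NSix.Base Cfsg.Agent.Omega.NSix.Basic
open Cfsg.Agent.Omega.NSix.Zero (WP)
open Cfsg.Agent.Omega.NSix.Engine (Hyp D4)
open Cfsg.Agent.Omega.S5.SymBig (H2 Pr SymH2)
open Cfsg.Agent.MinSimple.MinParabolic (IsMinPar)

universe u

section

variable {G : Type u} [Group G] [Finite G]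

/-- The situation of #18323. -/
structure Pos (S : Sylow 2 G) (P : Subgroup G) {m : ℕ} (ε : (Fin (2 ^ m + 1) → ZMod 2) → G) : Prop where
  c2 : IsCharacteristicTwoType G
  m3 : 3 ≤ m
  par : IsParS (S : Subgroup G) P
  hyp : Hyp (zl (S : Subgroup G) P) P ε
  fix0 : Fix0 ε (S : Subgroup G)
  nc : ∀ i j k l : Fin (2 ^ m + 1), D4 i j k l → ¬ ∀ u ∈ UU ε i j, ∀ y ∈ UU ε k l, u * y = y * u

/-- `C_G(r_ij) ≤ N_G(V)` for all pairs implies (H2). -/
theorem h2_of_nn {n : ℕ} {V P : Subgroup G} {ε : (Fin n → ZMod 2) → G} (h : Hyp V P ε)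
    (hnn : ∀ i j, i ≠ j → NN ε i j ≤ normalizer (V : Set G)) : H2 ε := by
  intro i j k l hij hkl _ _ _ _
  refine le_trans ?_ ((h.V_le hkl).trans (h.W2_leQ hkl))
  unfold UU
  rw [closure_le]
  rintro x ⟨g, hg, a, -, -, rfl⟩
  exact (mem_normalizer_iff.1 (hnn i j hij hg) _).1 (h.ev.mem _)

/-- The hypotheses `Engine.Hyp` from a pair. -/
theorem hyp_of {S S' : Sylow 2 G} {V V' P P' : Subgroup G} {m m' : ℕ}
    {ε : (Fin (2 ^ m + 1) → ZMod 2) → G} {ε' : (Fin (2 ^ m' + 1) → ZMod 2) → G} (h : Pr S S' V V' P P' ε ε')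
    (hm : 3 ≤ m) : Hyp V P ε := by
  have hs := h.sit hm
  have h5 : 5 ≤ 2 ^ m + 1 := five_le (by omega)
  have hodd : Odd (2 ^ m + 1) := Even.add_one (Nat.even_pow.mpr ⟨even_two, by omega⟩)
  refine Hyp.of h.c2 h5 hodd h.two.even S h.two.le h.zS
    (fun i j k hij hki hkj q hq => hs.pair hij hki hkj hq) (fun i j hij => hs.o2_le_P hij) ?_
  obtain ⟨i, j, hij, b, hm', hb, hbv⟩ := h.nform'
  exact ⟨i, j, hij, b, hm', hb, hbv⟩

/-- A counterexample to (H2) is a `Pos`. -/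
theorem Pos.of {S S' : Sylow 2 G} {V' P P' : Subgroup G} {m m' : ℕ}
    {ε : (Fin (2 ^ m + 1) → ZMod 2) → G} {ε' : (Fin (2 ^ m' + 1) → ZMod 2) → G}
    (h : Pr S S' (zl (S : Subgroup G) P) V' P P' ε ε') (hm : 3 ≤ m) (hP : IsParS (S : Subgroup G) P)
    (hno : ¬ H2 ε) : Pos S P ε where
  c2 := h.c2
  m3 := hm
  par := hP
  hyp := hyp_of h hm
  fix0 := h.two.fix
  nc := fun i j k l hD hc => hno fun a b c d hab hcd hac had hbc hbd =>
    (hyp_of h hm).hq_of_comm (fun {_ _ _ _} hD' => (hyp_of h hm).comm_transfer hD hD' hc)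
      ⟨hab, hac, had, hbc, hbd, hcd⟩

variable {S : Sylow 2 G} {P : Subgroup G} {m : ℕ} {ε : (Fin (2 ^ m + 1) → ZMod 2) → G}

/-- **#18323 (8)**. -/
theorem Pos.false (h : Pos S P ε) (hloc : ¬ NonLoc P (CZ (S : Subgroup G))) {i j : Fin (2 ^ m + 1)} (hij : i ≠ j)
    (hT : ¬ 2 ∣ ((S : Subgroup G) ⊓ NN ε i j).relIndex (NN ε i j))
    (hNT : NN ε i j ⊓ normalizer (((S : Subgroup G) ⊓ NN ε i j : Subgroup G) : Set G) ≤
      normalizer (zl (S : Subgroup G) P : Set G))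
    (hR : ∀ R : Subgroup G, IsMinPar ((S : Subgroup G) ⊓ NN ε i j) R → R ≤ NN ε i j →
      R ≤ normalizer (zl (S : Subgroup G) P : Set G) ∨ R ≤ centralizer ({zz ε 0} : Set G)) : False := by
  have h2 : 2 ≤ m := by have := h.m3; omega
  obtain ⟨e1, e2⟩ := End.le_sup h.c2 h2 h.par h.hyp.ev h.fix0
  obtain ⟨k, l, hkl, g, hg, -, hgV⟩ := h.hyp.mov
  have h3 := (End.nn_le_normalizer h.c2 h2 h.par h.hyp.ev h.fix0 hloc hij hT (hNT.trans e1)
    (fun R hR1 hR2 => (hR R hR1 hR2).elim (fun h4 => h4.trans e1) fun h4 => h4.trans e2)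
    ⟨k, l, hkl, g, hg, hgV⟩).2
  obtain ⟨a, b, c, d, hD⟩ : ∃ a b c d : Fin (2 ^ m + 1), D4 a b c d := by
    have h5 : 5 ≤ 2 ^ m + 1 := five_le h2
    refine ⟨⟨0, by omega⟩, ⟨1, by omega⟩, ⟨2, by omega⟩, ⟨3, by omega⟩, ?_, ?_, ?_, ?_, ?_, ?_⟩ <;>
      · intro e
        have := congrArg Fin.val e
        simp at this
  refine h.nc a b c d hD fun u hu y hy => ?_
  have hU : ∀ {a b : Fin (2 ^ m + 1)}, a ≠ b → UU ε a b ≤ zl (S : Subgroup G) P := by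
    intro a b hab
    unfold UU
    rw [closure_le]
    rintro x ⟨g, hg, k, -, -, rfl⟩
    exact (mem_normalizer_iff.1 (h3 a b hab hg) _).1 (h.hyp.ev.mem _)
  exact h.hyp.ev.comm_mem (hU hD.ij hu) (hU hD.kl hy)

end

/-- **(1), (2), (4) - (7) of #18323.** -/
def Steps (K : Cls.{u}) : Prop :=
  ∀ (G : Type u) [Group G] [Finite G], Ctx G → K G → ∀ (S : Sylow 2 G) (P : Subgroup G) (m : ℕ)
    (ε : (Fin (2 ^ m + 1) → ZMod 2) → G), Pos S P ε → ∀ i j : Fin (2 ^ m + 1), i ≠ j →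
      (∃ a ∈ (S : Subgroup G), Acts ε a (Equiv.swap i j)) →
        ¬ 2 ∣ ((S : Subgroup G) ⊓ NN ε i j).relIndex (NN ε i j) ∧
        NN ε i j ⊓ normalizer (((S : Subgroup G) ⊓ NN ε i j : Subgroup G) : Set G) ≤
          normalizer (zl (S : Subgroup G) P : Set G) ∧
        ∀ R : Subgroup G, IsMinPar ((S : Subgroup G) ⊓ NN ε i j) R → R ≤ NN ε i j →
          R ≤ normalizer (zl (S : Subgroup G) P : Set G) ∨ R ≤ centralizer ({zz ε 0} : Set G)

/-- **(H2)** of N6. -/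
theorem symH2_of {K : Cls.{u}} (hS : Steps K) (h2 : NO3S.SN.Two K) : SymH2 K := by
  intro G _ _ hG hK S _ _ _ _ _ P₁ P₂ y m m' ε ε₂ hm hm' hl _
  by_contra hno
  have hpr := S5.SymBig.pr_of hG.char2 (by omega) hm' hl
  have h := Pos.of hpr hm hl.pair.star₁ hno
  obtain ⟨i, j, hij, hsw⟩ := PairCen.exists_swap_mem (by omega) h.hyp.ev
    (MinSimple.Basic.not_dvd_relIndex S hl.pair.star₁.le)
  obtain ⟨e1, e2, e3⟩ := hS G hG hK S P₁ m ε h i j hij hsw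
  exact h.false (NO3S.SN.theoremSN_even h2 hK hG S hl.pair.star₁ hm hl.even hl.fix0) hij e1 e2 e3

/-- **The leaf II.c.** -/
theorem symBig {K : Cls.{u}} (hS : Steps K) (h2 : NO3S.SN.Two K) : S5.Main.SymBig K :=
  S5.SymBig.symBig_of (symH2_of hS h2)

end Cfsg.Agent.Omega.NSix.HTwo.Main
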