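import Cfsg.Agent.Omega.NSix.HTwo.Six
import Cfsg.Agent.Omega.NSix.HTwo.LemTwoIn

/-!
# (6), (7) of #18323 (helper480) in the group, over helper537's `LemTwo.In`

* `In.exists_sw`, `In.sw_disj`, `In.exists_two` : the matching of `S`; two pairs of it disjoint from `{i, j}`;
* `In.le_V` : `W' ≤ U_ij` centralising all `U_kl`, `kl` disjoint from `ij`; no over-offender of `R ≥ C_S(r_ij)` on
  `W'`: then `W' ≤ V`;
* `In.XX_cen` : then `X_0 = ⟨U_ik⟩` centralises `W'`.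
-/

set_option autoImplicit false
set_option linter.unusedSectionVars false

namespace Cfsg.Agent.Omega.NSix.HTwo.LemTwo

open Subgroup Cfsg
open Cfsg.Agent.Omega.S5.Def Cfsg.Agent.Omega.S5.Syl
open Cfsg.Agent.Omega.NSix.Base Cfsg.Agent.Omega.NSix.Basic Cfsg.Agent.Omega.NSix.Engine
open Cfsg.Agent.Omega.NSix.HTwo.Star (Un)
open Cfsg.Agent.Omega.FFThm (NoOverM)

universe u

variable {G : Type u} [Group G] [Finite G] {m : ℕ} {S : Sylow 2 G} {V P : Subgroup G}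
  {ε : (Fin (2 ^ m + 1) → ZMod 2) → G} {i j : Fin (2 ^ m + 1)} (h : In S V P ε i j)

namespace In

include h

/-- every label `≠ 0` is in a pair of the matching -/
theorem exists_sw {k : Fin (2 ^ m + 1)} (hk : k ≠ 0) :
    ∃ l, k ≠ l ∧ ∃ b ∈ (S : Subgroup G), Acts ε b (Equiv.swap k l) := by
  obtain ⟨s, hs, σ, hσ, h1⟩ := S5.Syl.trans (by have := h.hm; omega) h.hyp.ev h.SP
    (MinSimple.Basic.not_dvd_relIndex S h.SP) h.fix0 h.cosetHyp.i_ne_zero hk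
  obtain ⟨a, haS, haA⟩ := h.swap
  refine ⟨σ j, ?_, s * a * s⁻¹, mul_mem (mul_mem hs haS) (inv_mem hs), ?_⟩
  · rw [← h1]
    exact σ.injective.ne h.ij
  · have h3 := hσ.conj haA
    rwa [← Equiv.swap_apply_apply, h1] at h3

/-- two pairs of the matching with a common point are equal -/
theorem sw_disj {k l k' l' : Fin (2 ^ m + 1)} (hkl : k ≠ l)
    (hb : ∃ b ∈ (S : Subgroup G), Acts ε b (Equiv.swap k l)) (_ : k' ≠ l')
    (hb' : ∃ b ∈ (S : Subgroup G), Acts ε b (Equiv.swap k' l')) (h1 : k' ≠ k) (h2 : k' ≠ l) :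
    l' ≠ k ∧ l' ≠ l := by
  have hc := h.cosetHyp' hkl hb
  have hc' := h.cosetHyp' hkl.symm (by rw [Equiv.swap_comm]; exact hb)
  obtain ⟨b, hbS, hbA⟩ := hb'
  constructor
  · rintro rfl
    have h3 := hc'.fix_j hbS hbA (Equiv.swap_apply_of_ne_of_ne h2.symm hkl.symm)
    rw [Equiv.swap_apply_right] at h3
    exact h1 h3
  · rintro rfl
    have h3 := hc.fix_j hbS hbA (Equiv.swap_apply_of_ne_of_ne h1.symm hkl)
    rw [Equiv.swap_apply_right] at h3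
    exact h2 h3

/-- two pairs of the matching disjoint from `{i, j}` -/
theorem exists_two (hm : 3 ≤ m) : ∃ k l k' l' : Fin (2 ^ m + 1), D4 i j k l ∧ D4 i j k' l' ∧ D4 k l k' l' ∧
    (∃ b ∈ (S : Subgroup G), Acts ε b (Equiv.swap k l)) ∧ ∃ b ∈ (S : Subgroup G), Acts ε b (Equiv.swap k' l') := by
  classical
  have h8 : 8 ≤ 2 ^ m := by
    calc 8 = 2 ^ 3 := by norm_num
      _ ≤ 2 ^ m := Nat.pow_le_pow_right (by norm_num) hm
  have key : ∀ s : Finset (Fin (2 ^ m + 1)), s.card ≤ 5 → ∃ k, k ∉ s := by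
    intro s hs
    have hcard : s.card < (Finset.univ : Finset (Fin (2 ^ m + 1))).card := by
      rw [Finset.card_univ, Fintype.card_fin]
      omega
    obtain ⟨m, -, hm⟩ := Finset.exists_mem_notMem_of_card_lt_card hcard
    exact ⟨m, hm⟩
  obtain ⟨k, hk⟩ := key {0, i, j} (Finset.card_le_three.trans (by norm_num))
  simp only [Finset.mem_insert, Finset.mem_singleton, not_or] at hk
  obtain ⟨l, hkl, hb⟩ := h.exists_sw hk.1
  obtain ⟨l1, l2⟩ := h.sw_disj h.ij h.swap hkl hb hk.2.1 hk.2.2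
  obtain ⟨k', hk'⟩ := key {0, i, j, k, l} Finset.card_le_five
  simp only [Finset.mem_insert, Finset.mem_singleton, not_or] at hk'
  obtain ⟨l', hkl', hb'⟩ := h.exists_sw hk'.1
  obtain ⟨l3, l4⟩ := h.sw_disj h.ij h.swap hkl' hb' hk'.2.1 hk'.2.2.1
  obtain ⟨l5, l6⟩ := h.sw_disj hkl hb hkl' hb' hk'.2.2.2.1 hk'.2.2.2.2
  exact ⟨k, l, k', l', ⟨h.ij, Ne.symm hk.2.1, l1.symm, Ne.symm hk.2.2, l2.symm, hkl⟩,
    ⟨h.ij, (Ne.symm hk'.2.1), l3.symm, (Ne.symm hk'.2.2.1), l4.symm, hkl'⟩,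
    ⟨hkl, Ne.symm hk'.2.2.2.1, l5.symm, Ne.symm hk'.2.2.2.2, l6.symm, hkl'⟩, hb, hb'⟩

/-- **(6), (7)** -/
theorem le_V (hm : 3 ≤ m) {W' R : Subgroup G} (hW : ∀ y ∈ W', Un (UU ε) i j y) (hNO : NoOverM W' R)
    (hTR : (S : Subgroup G) ⊓ NN ε i j ≤ R) : ∀ y ∈ W', ∃ x, y = ε x := by
  obtain ⟨w, F⟩ := h.hyp.exists_fr
  obtain ⟨k, l, k', l', hp, hq, hpq, hb, hb'⟩ := h.exists_two hm
  refine Star.main F h.hyp.thC (fun hD y hy hc => Hyp.mem_Q h.hyp hD hy hc) hp hq hpq hW hNO ?_ ?_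
  · exact fun c hc _ => hTR (h.W2_le_T' hp.kl hp.ik.symm hp.jk.symm hp.il.symm hp.jl.symm hb hc)
  · exact fun c hc _ => hTR (h.W2_le_T' hq.kl hq.ik.symm hq.jk.symm hq.il.symm hq.jl.symm hb' hc)

/-- `X_0` centralises `W'` -/
theorem XX_cen (hm : 3 ≤ m) {W' R : Subgroup G} (hW : ∀ y ∈ W', Un (UU ε) i j y) (hNO : NoOverM W' R)
    (hTR : (S : Subgroup G) ⊓ NN ε i j ≤ R) : XX ε i j ≤ centralizer (W' : Set G) := by
  intro x hx
  refine mem_centralizer_iff.2 fun y hy => ?_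
  obtain ⟨f, rfl⟩ := h.le_V hm hW hNO hTR y hy
  exact (Fr.Ke (XX_le_KK h.hyp hx) f).symm

end In

end Cfsg.Agent.Omega.NSix.HTwo.LemTwo
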