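import Cfsg.Agent.Omega.NSix.Engine.Forms

/-!
# (5) and (7) of #18323 (helper480): `(H2)` of node N6, over the frame `Fr`

`Un U i j y`: `y ∈ U_ij` centralises all `U_kl`, `kl` disjoint from `ij` (`y ∈ U^*`).
* `star` (5): `[y, U_ik] ≤ V`;
* `star_e`: in fact `[y, x] = ε f` with `f i = f j = f k` for `x ∈ U_ik`;
* `Cz`: `y` centralises `W_kl ∩ C(V)` for all `kl` disjoint from `ij` (all functionals of `W_p^0` vanish on `y`);
* `seven` (7): `Un` and `Cz` imply `y ∈ V`.
-/

set_option autoImplicit false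
set_option linter.unusedSectionVars false

namespace Cfsg.Agent.Omega.NSix.HTwo.Star

open Subgroup Cfsg.Agent.Omega.S5.Def Cfsg.Agent.Omega.NSix.Base
open Cfsg.Agent.Omega.NSix.Engine Cfsg.Agent.Omega.NSix.Engine.Fr
open Cfsg.Agent.Omega.TTn.Di (cm cj cj_mul cj_inv cj_cj cj_one cj_eq_of_comm comm_of_cj cj_eq_cm cm_eq
  cm_one_iff cm_eq')

universe u

variable {G : Type u} [Group G] {n : ℕ}
  {ε : (Fin n → ZMod 2) → G} {U W Q : Fin n → Fin n → Subgroup G} {w : Fin n → Fin n → G}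
  (F : Fr ε U W Q w) {i j k l m : Fin n}

/-- `y ∈ U_ij` centralises the `U_kl`, `kl` disjoint from `ij` -/
def Un (U : Fin n → Fin n → Subgroup G) (i j : Fin n) (y : G) : Prop :=
  y ∈ U i j ∧ ∀ k l, D4 i j k l → Cen U y k l

/-- `y` centralises the `W_kl ∩ C(V)`, `kl` disjoint from `ij` -/
def Cz (ε : (Fin n → ZMod 2) → G) (W : Fin n → Fin n → Subgroup G) (i j : Fin n) (y : G) : Prop :=
  ∀ k l, D4 i j k l → ∀ c ∈ W k l, c ∈ KK ε → c * y = y * c

theorem Un.mul {x y : G} (hx : Un U i j x) (hy : Un U i j y) : Un U i j (x * y) :=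
  ⟨mul_mem hx.1 hy.1, fun k l hD u hu => by
    rw [mul_assoc, hy.2 k l hD u hu, ← mul_assoc, hx.2 k l hD u hu, mul_assoc]⟩

theorem Un.inv {x : G} (hx : Un U i j x) : Un U i j x⁻¹ :=
  ⟨inv_mem hx.1, fun k l hD u hu => by
    have h1 : Commute x u := hx.2 k l hD u hu
    exact h1.inv_left⟩

theorem Cz.mul {x y : G} (hx : Cz ε W i j x) (hy : Cz ε W i j y) : Cz ε W i j (x * y) :=
  fun k l hD c hc hK => by
    rw [← mul_assoc, hx k l hD c hc hK, mul_assoc, hy k l hD c hc hK, ← mul_assoc]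

include F

theorem un_e (hij : i ≠ j) {f : Fin n → ZMod 2} (hf : f i = f j) : Un U i j (ε f) :=
  ⟨(F.eU hij f).2 hf, fun _ _ hD u hu => (Ke (F.UK hD.kl hu) f).symm⟩

theorem cz_e (f : Fin n → ZMod 2) : Cz ε W i j (ε f) := fun _ _ _ _ _ hK => Ke hK f

/-- **(5)**: `[U^*, U_ik] ≤ V` -/
theorem star (hC : ThC ε U) (hij : i ≠ j) {y : G} (hy : Un U i j y) (hki : k ≠ i) (hkj : k ≠ j) {x : G}
    (hx : x ∈ U i k) : ∃ f : Fin n → ZMod 2, cm y x = ε f := by
  set z := cj (w j k) x with hz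
  have hzU : z ∈ U i j := F.w2' hij hki hkj hx
  have e : cm y x = be w j k y z := by
    unfold be
    rw [hz, F.cj_w_w hkj.symm (F.UK hki.symm hx)]
  have hb := F.be_lab hij hki hkj hy.1 hzU
  rw [e]
  obtain ⟨f, -, -, hf⟩ := F.four_all hC hij hb.1 fun l hli hlj => by
    intro u hu
    rcases eq_or_ne l k with rfl | hlk
    · exact F.Uab hki.symm _ hb.2 u hu
    have hD : D4 i j k l := ⟨hij, hki.symm, hli.symm, hkj.symm, hlj.symm, hlk.symm⟩
    have hb' := F.be_lab hij hli hlj hy.1 hzU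
    have hg : ga w i j k l y z = 1 := by
      have h1 : cj (w j l) z ∈ U i l := F.w1' hij hli hlj hzU
      have h2 : cj (w i k) (cj (w j l) z) ∈ U k l := F.w1 hD.ik hli hlk h1
      exact cm_one_iff.2 (hy.2 k l hD _ h2)
    obtain ⟨f, -, -, -, h3⟩ := F.gam hD hy.1 hzU
    rw [hg, mul_one] at h3
    -- `b_k b_l ε f ∈ U i l`
    have h4 : be w j k y z * ε f ∈ U i l := by
      have h5 := mul_mem h3 (inv_mem hb'.2)
      have h6 : be w j k y z * be w j l y z * ε f * (be w j l y z)⁻¹ = be w j k y z * ε f := by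
        rw [mul_assoc (be w j k y z * be w j l y z), ← Ke (inv_mem (F.UK hij hb'.1)) f]
        group
      rwa [h6] at h5
    have h5 := F.Uab hli.symm _ h4 u hu
    have h6 : u * ε f = ε f * u := Ke (F.UK hli.symm hu) f
    rw [mul_assoc, ← h6, ← mul_assoc, ← mul_assoc] at h5
    exact mul_right_cancel h5
  exact ⟨f, hf⟩

theorem star_e (hC : ThC ε U) (hij : i ≠ j) {y : G} (hy : Un U i j y) (hki : k ≠ i) (hkj : k ≠ j) {x : G}
    (hx : x ∈ U i k) : ∃ f : Fin n → ZMod 2, cm y x = ε f ∧ f i = f j ∧ f i = f k := by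
  obtain ⟨f, hf⟩ := star F hC hij hy hki hkj hx
  refine ⟨f, hf, ?_, ?_⟩
  · exact (F.eU hij f).1 (hf ▸ F.cm_left hij hy.1 (F.UK hki.symm hx))
  · exact (F.eU hki.symm f).1 (hf ▸ F.cm_right hki.symm (F.UK hij hy.1) hx)

/-- the functional of `w_kl` on `U^*` -/
theorem phi (hQ : ∀ {i j k l : Fin n}, D4 i j k l → ∀ y ∈ U i j, Cen U y k l → y ∈ Q k l) (hD : D4 i j k l) {y c : G}
    (hy : Un U i j y) (hc : c ∈ W k l) : cm y c = 1 ∨ cm y c = rr ε k l :=
  F.QW hD.kl y (hQ hD y hy.1 (hy.2 k l hD)) c hc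

omit F in
theorem acts_w (h : Acts ε (w k l) (Equiv.swap k l)) (f : Fin n → ZMod 2) : cj (w k l) (ε f) = ε (f ∘ Equiv.swap k l) := by
  have h1 := h f
  rw [Equiv.symm_swap] at h1
  exact h1

omit F in
/-- `f ∘ (k l) = f + (f k + f l)(e_k + e_l)` -/
theorem comp_swap (hkl : k ≠ l) (f : Fin n → ZMod 2) :
    f ∘ Equiv.swap k l = f + (f k + f l) • (Pi.single k 1 + Pi.single l 1 : Fin n → ZMod 2) := by
  have key : ∀ a b : ZMod 2, b = a + (a + b) := by decide
  funext a
  rw [Function.comp_apply, Pi.add_apply, Pi.smul_apply, Pi.add_apply, smul_eq_mul]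
  rcases eq_or_ne a k with rfl | hk
  · rw [Equiv.swap_apply_left, Pi.single_eq_same, Pi.single_eq_of_ne hkl, add_zero, mul_one]
    exact key _ _
  rcases eq_or_ne a l with rfl | hl
  · rw [Equiv.swap_apply_right, Pi.single_eq_same, Pi.single_eq_of_ne hkl.symm, zero_add, mul_one, add_comm (f k)]
    exact key _ _
  · rw [Equiv.swap_apply_of_ne_of_ne hk hl, Pi.single_eq_of_ne hk, Pi.single_eq_of_ne hl, add_zero,
      mul_zero, add_zero]

/-- `[ε f, w_kl] = r_kl ^ (f k + f l)` -/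
theorem cm_e_w (hkl : k ≠ l) (f : Fin n → ZMod 2) :
    cm (ε f) (w k l) = ε ((f k + f l) • (Pi.single k 1 + Pi.single l 1 : Fin n → ZMod 2)) := by
  have e : cm (ε f) (w k l) = ε f * cj (w k l) (ε f) := by rw [cm_eq', F.einv]
  rw [e, acts_w (F.wA hkl), comp_swap hkl, ← F.add, ← add_assoc, ZModModule.add_self, zero_add]

theorem const_of {f : Fin n → ZMod 2} (h : ∀ a b, f a = f b) : ε f = 1 :=
  F.inter _ fun a b hab => (F.eU hab f).2 (h a b)

/-- `ε f` fixed by `w_kl` -/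
theorem eq_of_fix (hkl : k ≠ l) (hki : k ≠ i) (hli : l ≠ i) {f : Fin n → ZMod 2} (h : cj (w k l) (ε f) = ε f) :
    f k = f l := by
  rw [acts_w (F.wA hkl)] at h
  have h1 : (f ∘ Equiv.swap k l) k = (f ∘ Equiv.swap k l) i ↔ f k = f i := by
    rw [← F.lab_e (i := k) (j := i) (f ∘ Equiv.swap k l), h, F.lab_e]
  rw [Function.comp_apply, Function.comp_apply, Equiv.swap_apply_left,
    Equiv.swap_apply_of_ne_of_ne hki.symm hli.symm] at h1
  have key : ∀ a b c : ZMod 2, (b = c ↔ a = c) → a = b := by decide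
  exact key _ _ _ h1

/-- **(7)** -/
theorem seven (hC : ThC ε U) (hQ : ∀ {i j k l : Fin n}, D4 i j k l → ∀ y ∈ U i j, Cen U y k l → y ∈ Q k l)
    (hij : i ≠ j) (hmi : m ≠ i) (hmj : m ≠ j) {y : G} (hy : Un U i j y) (hz : Cz ε W i j y) : ∃ x, y = ε x := by
  classical
  set a : Fin n → ZMod 2 := fun l => if l = i ∨ l = j ∨ l = m ∨ cm y (w m l) = 1 then 0 else 1 with ha
  have ai : a i = 0 := if_pos (Or.inl rfl)
  have aj : a j = 0 := if_pos (Or.inr (Or.inl rfl))
  have am : a m = 0 := if_pos (Or.inr (Or.inr (Or.inl rfl)))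
  set y' := y * ε a with hy'
  have hyU : Un U i j y' := hy.mul (un_e F hij (ai.trans aj.symm))
  have hyz : Cz ε W i j y' := hz.mul (cz_e F a)
  have hyK : y ∈ KK ε := F.UK hij hy.1
  -- `y'` commutes with `w m l`
  have h1 : ∀ l, l ≠ i → l ≠ j → l ≠ m → w m l * y' = y' * w m l := by
    intro l hli hlj hlm
    have hD : D4 i j m l := ⟨hij, hmi.symm, hli.symm, hmj.symm, hlj.symm, hlm.symm⟩
    have h2 : cm y' (w m l) = 1 := by
      rw [hy', cm_mul_left, cm_e_w F hlm.symm, am, zero_add, cj_eq_of_comm (Ke hyK _)]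
      rcases phi F hQ hD hy (F.wW hlm.symm) with h3 | h3
      · have h4 : a l = 0 := if_pos (Or.inr (Or.inr (Or.inr h3)))
        rw [h3, h4, zero_smul, F.zero, one_mul]
      · have h4 : a l = 1 := if_neg (by
          rw [h3]
          rintro (h | h | h | h)
          · exact hli h
          · exact hlj h
          · exact hlm h
          · rw [F.rr_eq] at h
            have h5 := (F.eU hmi (Pi.single m 1 + Pi.single l 1)).1 (h ▸ one_mem _)
            rw [Pi.add_apply, Pi.add_apply, Pi.single_eq_same, Pi.single_eq_of_ne hlm.symm,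
              Pi.single_eq_of_ne hmi.symm, Pi.single_eq_of_ne hli.symm, add_zero, add_zero] at h5
            exact one_ne_zero h5)
        rw [h3, h4, one_smul, ← F.rr_eq, F.r_sq]
    exact (cm_one_iff.1 h2).symm
  -- `[y', U_ik] = 1`
  have h2 : ∀ k, k ≠ i → k ≠ j → Cen U y' i k := by
    intro k hki hkj x hx
    obtain ⟨f, hf, f1, f2⟩ := star_e F hC hij hyU hki hkj hx
    have hxK : x ∈ KK ε := F.UK hki.symm hx
    have h3 : ∀ l, l ≠ i → l ≠ j → f l = f m := by
      intro l hli hlj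
      rcases eq_or_ne l m with rfl | hlm
      · rfl
      have hD : D4 i j m l := ⟨hij, hmi.symm, hli.symm, hmj.symm, hlj.symm, hlm.symm⟩
      refine (eq_of_fix F hlm.symm hmi hli ?_).symm
      have hcK : cm (w m l) x ∈ KK ε := by
        rw [cm_eq]
        exact mul_mem (F.cjK hlm.symm hxK) (inv_mem hxK)
      have hcW : cm (w m l) x ∈ W m l := by
        rw [cm_eq']
        exact mul_mem (F.wW hlm.symm) (F.KW hlm.symm hxK (inv_mem (F.wW hlm.symm)))
      have e1 : cj (w m l) y' = y' := cj_eq_of_comm (h1 l hli hlj hlm)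
      have e2 : cj (w m l) x = cm (w m l) x * x := cj_eq_cm _ _
      rw [← hf, cj_cm, e1, e2, cm_mul_right, cm_one_iff.2 (hyz m l hD _ hcW hcK).symm, one_mul, hf]
      exact cj_eq_of_comm (Ke hcK f)
    have h4 : ε f = 1 := by
      have h5 : ∀ b, f b = f i := by
        intro b
        rcases eq_or_ne b i with rfl | hbi
        · rfl
        rcases eq_or_ne b j with rfl | hbj
        · exact f1.symm
        · rw [h3 b hbi hbj, f2, h3 k hki hkj]
      exact const_of F fun b c => (h5 b).trans (h5 c).symm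
    rw [h4] at hf
    exact cm_one_iff.1 hf
  obtain ⟨x, -, -, hx⟩ := F.four_all hC hij hyU.1 h2
  refine ⟨x + a, ?_⟩
  rw [F.add, ← hx, hy', mul_assoc, F.esq, mul_one]

end Cfsg.Agent.Omega.NSix.HTwo.Star
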